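import Groth.Agent.CurveHurwitz18.Main
import Groth.Agent.PnCoh.Chow.Proper

/-!
# Residue degrees and assembly of the Hurwitz inequality
-/

set_option autoImplicit false
set_option linter.style.haveILetI false
set_option linter.unusedSectionVars false
set_option backward.isDefEq.respectTransparency false
set_option backward.isDefEq.respectTransparency.types false
set_option maxHeartbeats 1000000
set_option synthInstance.maxHeartbeats 200000

universe u

open CategoryTheory CategoryTheory.Limits AlgebraicGeometry TopologicalSpace Opposite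

noncomputable section

attribute [local instance] Curv2.resAlgebra

namespace Groth.Agent.CurveHurwitz18

open Groth.Agent Groth.Agent.CurveCohLib

theorem tameSpec_congr {A O : Type u} [CommRing A] [IsLocalRing A] [CommRing O] [IsLocalRing O] {g g' : A →+* O}
    [IsLocalHom g] [IsLocalHom g'] (h : g = g') {d : ℕ} (ht : TameSpec g d) : TameSpec g' d := by
  subst h
  exact ht

theorem resDeg_congr {A O : Type u} [CommRing A] [IsLocalRing A] [CommRing O] [IsLocalRing O] {g g' : A →+* O}
    [IsLocalHom g] [IsLocalHom g'] (h : g = g') : resDeg g = resDeg g' := by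
  subst h
  rfl

variable {X Y : Scheme.{u}} (f : X ⟶ Y)

theorem residueFieldMap_residue (x : X) (r : Y.presheaf.stalk (f x)) :
    (f.residueFieldMap x).hom (IsLocalRing.residue (Y.presheaf.stalk (f x)) r) =
      IsLocalRing.residue (X.presheaf.stalk x) ((f.stalkMap x).hom r) := rfl

theorem resDeg_eq (x : X) :
    resDeg (stalkTo (rfl : f x = f x)) =
      (letI := (f.residueFieldMap x).hom.toAlgebra; Module.finrank (Y.residueField (f x)) (X.residueField x)) := by
  refine (resDeg_congr stalkTo_self).trans ?_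
  letI := (f.stalkMap x).hom.toAlgebra
  haveI : IsLocalHom (algebraMap (Y.presheaf.stalk (f x)) (X.presheaf.stalk x)) :=
    (inferInstance : IsLocalHom (f.stalkMap x).hom)
  have h : (inferInstance : Algebra (IsLocalRing.ResidueField (Y.presheaf.stalk (f x)))
      (IsLocalRing.ResidueField (X.presheaf.stalk x))) = (f.residueFieldMap x).hom.toAlgebra := by
    refine Algebra.algebra_ext _ _ fun r => ?_
    obtain ⟨r, rfl⟩ := IsLocalRing.residue_surjective r
    rfl
  exact congrArg (fun a : Algebra (IsLocalRing.ResidueField (Y.presheaf.stalk (f x)))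
    (IsLocalRing.ResidueField (X.presheaf.stalk x)) => @Module.finrank (IsLocalRing.ResidueField (Y.presheaf.stalk (f x)))
      (IsLocalRing.ResidueField (X.presheaf.stalk x)) _ _ a.toModule) h

/-- The exponent criterion in the form of the statement. -/
theorem tameSpec_iff (x : X) {d : ℕ} (ht : TameSpec (stalkTo (rfl : f x = f x)) d) :
    letI := (f.stalkMap x).hom.toAlgebra
    Ideal.ramificationIdx (IsLocalRing.maximalIdeal (X.presheaf.stalk x)) (Y.presheaf.stalk (f x)) - 1 ≤ d ∧
      (d = Ideal.ramificationIdx (IsLocalRing.maximalIdeal (X.presheaf.stalk x)) (Y.presheaf.stalk (f x)) - 1 ↔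
        letI := (f.residueFieldMap x).hom.toAlgebra
        Algebra.IsSeparable (Y.residueField (f x)) (X.residueField x) ∧
          ((Ideal.ramificationIdx (IsLocalRing.maximalIdeal (X.presheaf.stalk x)) (Y.presheaf.stalk (f x)) : ℕ) :
            Y.residueField (f x)) ≠ 0) := by
  letI := (f.stalkMap x).hom.toAlgebra
  haveI : IsLocalHom (algebraMap (Y.presheaf.stalk (f x)) (X.presheaf.stalk x)) :=
    (inferInstance : IsLocalHom (f.stalkMap x).hom)
  obtain ⟨h1, h2⟩ := tameSpec_congr stalkTo_self ht
  have h : (inferInstance : Algebra (IsLocalRing.ResidueField (Y.presheaf.stalk (f x)))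
      (IsLocalRing.ResidueField (X.presheaf.stalk x))) = (f.residueFieldMap x).hom.toAlgebra := by
    refine Algebra.algebra_ext _ _ fun r => ?_
    obtain ⟨r, rfl⟩ := IsLocalRing.residue_surjective r
    rfl
  refine ⟨h1, h2.trans ?_⟩
  show (@Algebra.IsSeparable (IsLocalRing.ResidueField (Y.presheaf.stalk (f x)))
    (IsLocalRing.ResidueField (X.presheaf.stalk x)) _ _ inferInstance ∧ _) ↔ _
  rw [h]
  rfl

variable (k : Type u) [Field k] [X.Over (Spec (CommRingCat.of k))] [Y.Over (Spec (CommRingCat.of k))]

theorem resMap_comp (hf : f ≫ (Y ↘ Spec (CommRingCat.of k)) = X ↘ Spec (CommRingCat.of k)) (x : X) (c : k) :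
    Curv2.resMap k X x c = (f.residueFieldMap x).hom (Curv2.resMap k Y (f x) c) := by
  show X.Γevaluation x (Coh.toGlobal (X ↘ Spec (CommRingCat.of k)) c) =
    f.residueFieldMap x (Y.Γevaluation (f x) (Coh.toGlobal (Y ↘ Spec (CommRingCat.of k)) c))
  rw [Scheme.Γevaluation_naturality_apply, ← hf]
  rfl

variable [IsProper (X ↘ Spec (CommRingCat.of k))] [IsProper (Y ↘ Spec (CommRingCat.of k))]

/-- Residue degrees multiply. -/
theorem finrank_residueField (hf : f ≫ (Y ↘ Spec (CommRingCat.of k)) = X ↘ Spec (CommRingCat.of k)) {x : X}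
    (hx : IsClosed ({x} : Set X)) :
    Module.finrank k (X.residueField x) = Module.finrank k (Y.residueField (f x)) * resDeg (stalkTo (rfl : f x = f x)) ∧
      0 < resDeg (stalkTo (rfl : f x = f x)) ∧ 0 < Module.finrank k (X.residueField x) := by
  rw [resDeg_eq]
  letI := (f.residueFieldMap x).hom.toAlgebra
  haveI : IsScalarTower k (Y.residueField (f x)) (X.residueField x) :=
    IsScalarTower.of_algebraMap_eq fun c => resMap_comp f k hf x c
  haveI : Module.Finite k (X.residueField x) :=
    NodeFam.finite_residueField_of_isClosed (X ↘ Spec (CommRingCat.of k)) hx fun _ => rfl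
  haveI : Module.Finite (Y.residueField (f x)) (X.residueField x) :=
    Module.Finite.of_restrictScalars_finite k _ _
  exact ⟨(Module.finrank_mul_finrank k (Y.residueField (f x)) (X.residueField x)).symm, Module.finrank_pos,
    Module.finrank_pos⟩

/-- Comparing two weighted sums termwise. -/
theorem sum_comparison {ι : Type u} (P : Finset ι) (w : ι → ℕ) (a δ : ι → ℕ) (hw : ∀ x ∈ P, 0 < w x)
    (h : ∀ x ∈ P, a x ≤ δ x) :
    ∑ x ∈ P, (a x : ℤ) * w x ≤ ∑ x ∈ P, (δ x : ℤ) * w x ∧
      (∑ x ∈ P, (a x : ℤ) * w x = ∑ x ∈ P, (δ x : ℤ) * w x ↔ ∀ x ∈ P, δ x = a x) := by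
  have hle : ∀ x ∈ P, (a x : ℤ) * w x ≤ (δ x : ℤ) * w x := fun x hx =>
    mul_le_mul_of_nonneg_right (by exact_mod_cast h x hx) (by positivity)
  refine ⟨Finset.sum_le_sum hle, ?_⟩
  rw [Finset.sum_eq_sum_iff_of_le hle]
  refine forall₂_congr fun x hx => ?_
  have : (w x : ℤ) ≠ 0 := by exact_mod_cast (hw x hx).ne'
  rw [mul_left_inj' this, Nat.cast_inj, eq_comm]

end Groth.Agent.CurveHurwitz18
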