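import Groth.Agent.CurveTrace.Main
import Groth.Agent.H23.Frame
import Groth.Agent.QCoh.Devissage
import Groth.Agent.TFOneX.Basic
import Groth.Agent.CurveCohLib.GlobGen

/-!
# The lattices of a finite cover of curves inside the constant sheaf of rational functions upstairs
-/

set_option autoImplicit false
set_option linter.style.haveILetI false
set_option linter.unusedSectionVars false
set_option backward.isDefEq.respectTransparency false
set_option backward.isDefEq.respectTransparency.types false
set_option maxHeartbeats 1000000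

universe u

open CategoryTheory CategoryTheory.Limits AlgebraicGeometry TopologicalSpace Opposite

noncomputable section

namespace Groth.Agent.CurveHurwitz18

open Groth.Agent Groth.Agent.CurveCohLib Groth.Agent.CurveCohLib.Polar Groth.Agent.AModX
open Groth.Agent.CurveTrace (ff gen_mem ff_gη)

variable {X Y : Scheme.{u}} [IsIntegral X] [IsIntegral Y] (f : X ⟶ Y)

/-- The sheaf on the base of the rational functions of the cover. -/
abbrev amb : Y.Modules := (Scheme.Modules.pushforward f).obj (rat X)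

/-- The direct image of the structure sheaf. -/
abbrev dir : Y.Modules := (Scheme.Modules.pushforward f).obj (Coh.structureModule X)

/-- The inclusion of the functions in the rational functions. -/
def incDir : dir f ⟶ amb f :=
  (Scheme.Modules.pushforward f).map (QCoh.homOfTop (cst (W := (⊤ : X.Opens)) (x := genericPoint X) trivial 1))

/-- A global rational function, as a section downstairs. -/
def glob (c : X.functionField) : Γ(rat X, f ⁻¹ᵁ (⊤ : Y.Opens)) :=
  cst (W := (f ⁻¹ᵁ ⊤ : X.Opens)) (x := genericPoint X) trivial c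

/-- The map from a free module given by rational functions. -/
def incFree {n : ℕ} (b : Fin n → X.functionField) : FlatMod.freeMod Y n ⟶ amb f :=
  Sigma.desc fun i => QCoh.homOfTop (P := amb f) (show Γ(amb f, ⊤) from glob f (b i))

theorem germ_res' (M : Y.Modules) {U W : Y.Opens} (h : W ≤ U) {y : Y} (hy : y ∈ W) (m : Γ(M, U)) :
    M.presheaf.germ W y hy (res M h m) = M.presheaf.germ U y (h hy) m :=
  M.presheaf.germ_res_apply (homOfLE h) y hy m

variable {f} (e : f (genericPoint X) = genericPoint Y)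
  [Algebra Y.functionField X.functionField]

theorem val_incDir {W : Y.Opens} {y : Y} (hy : y ∈ W) (s : Γ(X, f ⁻¹ᵁ W)) :
    val (gen_mem e hy) ((incDir f).app W s) = gη (gen_mem e hy) s := by
  show val _ ((QCoh.homOfTop _).app (f ⁻¹ᵁ W) s) = _
  rw [QCoh.homOfTop_app]
  show val _ ((show Γ(X, f ⁻¹ᵁ W) from s) • res (rat X) le_top _) = _
  rw [val_smul]
  rw [val_res le_top (gen_mem e hy) (show genericPoint X ∈ (⊤ : X.Opens) from trivial), val_cst, mul_one]

include e in
theorem val_incFree {n : ℕ} (b : Fin n → X.functionField) (i : Fin n) {W : Y.Opens} {y : Y} (hy : y ∈ W) (r : Γ(Y, W)) :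
    val (gen_mem e hy) ((H23.Frame.incl Y n i ≫ incFree f b).app W r) = ff e (gη hy r) * b i := by
  rw [show H23.Frame.incl Y n i ≫ incFree f b = _ from Sigma.ι_desc _ i, QCoh.homOfTop_app]
  show val (gen_mem e hy) ((show Γ(X, f ⁻¹ᵁ W) from f.app W r) •
    res (rat X) (f.preimage_mono (le_top : W ≤ ⊤)) (glob f (b i))) = _
  unfold glob
  rw [val_smul, val_res (f.preimage_mono le_top) (gen_mem e hy)
    (show genericPoint X ∈ (f ⁻¹ᵁ ⊤ : X.Opens) from trivial), val_cst, ff_gη]

section Stalk

variable (halg : algebraMap Y.functionField X.functionField = ff e)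
  (y : Y) [Algebra (Y.presheaf.stalk y) X.functionField]
  [IsScalarTower (Y.presheaf.stalk y) Y.functionField X.functionField]

include halg in
theorem algebraMap_germ {W : Y.Opens} (hy : y ∈ W) (r : Γ(Y, W)) :
    algebraMap (Y.presheaf.stalk y) X.functionField (Y.presheaf.germ W y hy r) = ff e (gη hy r) := by
  haveI : Nonempty W := ⟨⟨y, hy⟩⟩
  rw [IsScalarTower.algebraMap_apply (Y.presheaf.stalk y) Y.functionField X.functionField, halg,
    Y.algebraMap_germ_eq_germToFunctionField hy r]
  rfl

/-- The value of a germ of a rational function. -/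
def psiFun : (DerSch.stalkFunctor Y y).obj (amb f) → X.functionField := fun w =>
  let h := (amb f).presheaf.exists_germ_eq w
  val (gen_mem e h.choose_spec.choose) (show Γ(rat X, f ⁻¹ᵁ h.choose) from h.choose_spec.choose_spec.choose)

theorem psiFun_germ {W : Y.Opens} (hy : y ∈ W) (m : Γ(amb f, W)) :
    psiFun e y ((amb f).presheaf.germ W y hy m) = val (gen_mem e hy) (show Γ(rat X, f ⁻¹ᵁ W) from m) := by
  let h := (amb f).presheaf.exists_germ_eq ((amb f).presheaf.germ W y hy m)
  obtain ⟨U, hyU, i, j, he⟩ := (amb f).presheaf.germ_eq y h.choose_spec.choose hy _ m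
    h.choose_spec.choose_spec.choose_spec
  show val (gen_mem e h.choose_spec.choose) (show Γ(rat X, f ⁻¹ᵁ h.choose) from h.choose_spec.choose_spec.choose) = _
  rw [← val_res (f.preimage_mono i.le) (gen_mem e hyU) (gen_mem e h.choose_spec.choose)]
  rw [← val_res (f.preimage_mono j.le) (gen_mem e hyU) (gen_mem e hy)]
  exact congrArg (val (gen_mem e hyU)) he

/-- The value of a germ of a rational function, linearly. -/
def psi : (DerSch.stalkFunctor Y y).obj (amb f) →ₗ[Y.presheaf.stalk y] X.functionField :=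
  haveI := halg
  { toFun := psiFun e y
    map_add' := fun v w => by
      obtain ⟨U, hU, a, rfl⟩ := (amb f).presheaf.exists_germ_eq v
      obtain ⟨V, hV, b, rfl⟩ := (amb f).presheaf.exists_germ_eq w
      have hUV : y ∈ U ⊓ V := ⟨hU, hV⟩
      rw [← germ_res' (amb f) (inf_le_left : U ⊓ V ≤ U) hUV, ← germ_res' (amb f) (inf_le_right : U ⊓ V ≤ V) hUV,
        psiFun_germ, psiFun_germ]
      refine (congrArg (psiFun e y) (map_add ((amb f).presheaf.germ (U ⊓ V) y hUV).hom _ _).symm).trans ?_
      rw [psiFun_germ]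
      exact map_add (val (gen_mem e hUV)) _ _
    map_smul' := fun a w => by
      obtain ⟨U, hU, r, rfl⟩ := Y.presheaf.exists_germ_eq a
      obtain ⟨V, hV, b, rfl⟩ := (amb f).presheaf.exists_germ_eq w
      have hUV : y ∈ U ⊓ V := ⟨hU, hV⟩
      have h1 : Y.presheaf.germ (U ⊓ V) y hUV (AModX.resR inf_le_left r) = Y.presheaf.germ U y hU r :=
        TopCat.Presheaf.germ_res_apply Y.presheaf (homOfLE inf_le_left) y hUV r
      rw [RingHom.id_apply, ← h1, ← germ_res' (amb f) (inf_le_right : U ⊓ V ≤ V) hUV b]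
      refine (congrArg (psiFun e y) (QCoh.germ_smul' (amb f) hUV _ _).symm).trans ?_
      rw [psiFun_germ, psiFun_germ, Algebra.smul_def, algebraMap_germ e halg y hUV, ff_gη]
      exact val_smul (gen_mem e hUV) _ _ }

theorem psi_germ {W : Y.Opens} (hy : y ∈ W) (m : Γ(amb f, W)) :
    psi e halg y ((amb f).presheaf.germ W y hy m) = val (gen_mem e hy) (show Γ(rat X, f ⁻¹ᵁ W) from m) :=
  psiFun_germ e y hy m

theorem psi_injective : Function.Injective (psi e halg y) := by
  refine (injective_iff_map_eq_zero _).2 fun w hw => ?_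
  obtain ⟨W, hy, m, rfl⟩ := (amb f).presheaf.exists_germ_eq w
  rw [psi_germ] at hw
  have hm : (show Γ(rat X, f ⁻¹ᵁ W) from m) = 0 := val_injective (gen_mem e hy) (hw.trans (map_zero _).symm)
  rw [show m = 0 from hm, map_zero]

/-- The functions on the cover near a point of the base. -/
def latDir : Submodule (Y.presheaf.stalk y) X.functionField :=
  LinearMap.range (psi e halg y ∘ₗ TFOneX.sm (incDir f) y)

theorem psi_incDir {W : Y.Opens} (hy : y ∈ W) (s : Γ(X, f ⁻¹ᵁ W)) :
    psi e halg y (TFOneX.sm (incDir f) y ((dir f).presheaf.germ W y hy s)) = gη (gen_mem e hy) s := by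
  refine (congrArg (psi e halg y) (DerSch.stalkFunctor_map_germ y (incDir f) W hy s)).trans ?_
  rw [psi_germ]
  exact val_incDir e hy s

theorem gη_mem_latDir {W : Y.Opens} (hy : y ∈ W) (s : Γ(X, f ⁻¹ᵁ W)) :
    gη (gen_mem e hy) s ∈ latDir e halg y :=
  ⟨_, psi_incDir e halg y hy s⟩

theorem psi_free_one {n : ℕ} (b : Fin n → X.functionField) (i : Fin n) :
    psi e halg y (TFOneX.sm (H23.Frame.incl Y n i ≫ incFree f b) y
      ((Coh.structureModule Y).presheaf.germ ⊤ y trivial (1 : Γ(Y, ⊤)))) = b i := by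
  refine (congrArg (psi e halg y)
    (DerSch.stalkFunctor_map_germ y (H23.Frame.incl Y n i ≫ incFree f b) ⊤ trivial (1 : Γ(Y, ⊤)))).trans ?_
  refine (psi_germ e halg y (W := ⊤) trivial _).trans ?_
  refine (val_incFree e b i (W := ⊤) (y := y) trivial (1 : Γ(Y, ⊤))).trans ?_
  rw [map_one, map_one, one_mul]

theorem sm_total (n : ℕ) (w : (DerSch.stalkFunctor Y y).obj (FlatMod.freeMod Y n)) :
    w = ∑ i, TFOneX.sm (H23.Frame.incl Y n i) y (TFOneX.sm (H23.Frame.proj Y n i) y w) := by
  let φ : (FlatMod.freeMod Y n ⟶ FlatMod.freeMod Y n) →+ _ :=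
    { toFun := fun g => TFOneX.sm g y w, map_zero' := TFOneX.sm_zero y w, map_add' := fun g g' => TFOneX.sm_add g g' y w }
  refine (TFOneX.sm_id (M := FlatMod.freeMod Y n) y w).symm.trans ?_
  rw [← H23.Frame.total Y n]
  exact (map_sum φ _ Finset.univ).trans (Finset.sum_congr rfl fun i _ => TFOneX.sm_comp _ _ y w)

theorem range_of_total {n : ℕ} {F : Y.Modules} (L : (DerSch.stalkFunctor Y y).obj F →ₗ[Y.presheaf.stalk y] X.functionField)
    (b : Fin n → X.functionField) (v : Fin n → (DerSch.stalkFunctor Y y).obj F) (hv : ∀ i, L (v i) = b i)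
    (hw : ∀ w, ∃ a : Fin n → Y.presheaf.stalk y, w = ∑ i, a i • v i) :
    LinearMap.range L = Submodule.span (Y.presheaf.stalk y) (Set.range b) := by
  refine le_antisymm ?_ (Submodule.span_le.2 (Set.range_subset_iff.2 fun i => ⟨v i, hv i⟩))
  rintro _ ⟨w, rfl⟩
  obtain ⟨a, rfl⟩ := hw w
  rw [map_sum]
  refine Submodule.sum_mem _ fun i _ => ?_
  rw [map_smul, hv]
  exact Submodule.smul_mem _ _ (Submodule.subset_span ⟨i, rfl⟩)

theorem range_incFree {n : ℕ} (b : Fin n → X.functionField) :
    LinearMap.range (psi e halg y ∘ₗ TFOneX.sm (incFree f b) y) =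
      Submodule.span (Y.presheaf.stalk y) (Set.range b) := by
  refine range_of_total y _ b (fun i => TFOneX.sm (H23.Frame.incl Y n i) y
    ((Coh.structureModule Y).presheaf.germ ⊤ y trivial (1 : Γ(Y, ⊤)))) (fun i => ?_) fun w => ?_
  · rw [LinearMap.comp_apply, ← TFOneX.sm_comp]
    exact psi_free_one e halg y b i
  · choose a ha using fun i => CurveCohLib.GlobGen.exists_smul_one y (TFOneX.sm (H23.Frame.proj Y n i) y w)
    refine ⟨a, (sm_total y n w).trans (Finset.sum_congr rfl fun i _ => ?_)⟩
    rw [ha i, map_smul]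

theorem range_sum {A B : Y.Modules} (u : A ⟶ amb f) (v : B ⟶ amb f) :
    LinearMap.range (psi e halg y ∘ₗ TFOneX.sm (biprod.desc u v) y) =
      LinearMap.range (psi e halg y ∘ₗ TFOneX.sm u y) ⊔ LinearMap.range (psi e halg y ∘ₗ TFOneX.sm v y) := by
  refine le_antisymm ?_ (sup_le ?_ ?_)
  · rintro _ ⟨w, rfl⟩
    rw [LinearMap.comp_apply, biprod.desc_eq, TFOneX.sm_add, TFOneX.sm_comp, TFOneX.sm_comp, map_add]
    exact Submodule.add_mem_sup ⟨_, rfl⟩ ⟨_, rfl⟩
  · rintro _ ⟨w, rfl⟩
    refine ⟨TFOneX.sm (biprod.inl : A ⟶ A ⊞ B) y w, ?_⟩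
    rw [LinearMap.comp_apply, ← TFOneX.sm_comp, biprod.inl_desc]
    rfl
  · rintro _ ⟨w, rfl⟩
    refine ⟨TFOneX.sm (biprod.inr : B ⟶ A ⊞ B) y w, ?_⟩
    rw [LinearMap.comp_apply, ← TFOneX.sm_comp, biprod.inr_desc]
    rfl

end Stalk

end Groth.Agent.CurveHurwitz18
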