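import Groth.Agent.DiffTame.Basic
import Mathlib.RingTheory.DedekindDomain.PID
import Mathlib.RingTheory.Localization.AtPrime.Basic

/-!
# The exponent of the different at a prime of a semilocal extension of a discrete valuation ring
-/

set_option autoImplicit false
set_option linter.style.haveILetI false
set_option linter.unusedSectionVars false
set_option maxHeartbeats 800000

universe u

open IsLocalRing

attribute [local instance] Ideal.Quotient.field FractionRing.liftAlgebra FractionRing.isScalarTower_liftAlgebra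

namespace Groth.Agent.CurveHurwitz18

open nonZeroDivisors

variable (A B : Type u) [CommRing A] [IsDomain A] [IsDiscreteValuationRing A]
  [CommRing B] [IsDomain B] [IsDedekindDomain B] [IsPrincipalIdealRing B] [Algebra A B] [Module.Finite A B]
  [Module.IsTorsionFree A B] [Algebra.IsSeparable (FractionRing A) (FractionRing B)]

/-- The prime power occurring in the maximal ideal below divides the different exactly when all traces
from the complementary factor lie in that maximal ideal. -/
theorem dvd_different_iff_trace (Pn Q : Ideal B) (hmul : (maximalIdeal A).map (algebraMap A B) = Pn * Q) :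
    Pn ∣ differentIdeal A B ↔ ∀ x ∈ Q, Algebra.intTrace A B x ∈ maximalIdeal A := by
  classical
  refine ⟨fun h x hx => by_contra fun hx' =>
    not_dvd_differentIdeal_of_intTrace_not_mem A Pn Q hmul.symm x hx hx' h, fun hall => ?_⟩
  obtain ⟨ϖ, hϖ⟩ := IsDiscreteValuationRing.exists_irreducible A
  have hpϖ : maximalIdeal A = Ideal.span {ϖ} := hϖ.maximalIdeal_eq
  have hp0 : maximalIdeal A ≠ ⊥ := IsDiscreteValuationRing.not_a_field A
  have hinj : Function.Injective (algebraMap A B) := FaithfulSMul.algebraMap_injective A B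
  have hmap0 : algebraMap A B ϖ ≠ 0 := (map_ne_zero_iff _ hinj).mpr hϖ.ne_zero
  have hmapbot : (maximalIdeal A).map (algebraMap A B) ≠ ⊥ :=
    (Ideal.map_eq_bot_iff_of_injective hinj).not.mpr hp0
  have hPn : Pn ≠ ⊥ := fun h => hmapbot (by rw [hmul, h, Ideal.bot_mul])
  let K := FractionRing A
  let L := FractionRing B
  haveI : IsLocalization (Algebra.algebraMapSubmonoid B A⁰) L := IsIntegralClosure.isLocalization _ K _ _
  haveI : FiniteDimensional K L := .of_isLocalization A B A⁰
  rw [Ideal.dvd_iff_le, differentialIdeal_le_iff (K := K) (L := L) hPn, Submodule.map_le_iff_le_comap]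
  intro z hz
  rw [Submodule.mem_comap, LinearMap.coe_restrictScalars]
  rw [Submodule.restrictScalars_mem, FractionalIdeal.mem_coe] at hz
  have hinv : (Pn : FractionalIdeal B⁰ L)⁻¹ = (Q : FractionalIdeal B⁰ L) *
      FractionalIdeal.spanSingleton B⁰ (algebraMap B L (algebraMap A B ϖ))⁻¹ := by
    refine (FractionalIdeal.right_inverse_eq _ _ _ ?_).symm
    rw [← mul_assoc, ← FractionalIdeal.coeIdeal_mul, ← hmul, hpϖ, Ideal.map_span, Set.image_singleton,
      FractionalIdeal.coeIdeal_span_singleton, FractionalIdeal.spanSingleton_mul_spanSingleton,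
      mul_inv_cancel₀ (IsFractionRing.to_map_eq_zero_iff.not.mpr hmap0), FractionalIdeal.spanSingleton_one]
  rw [hinv, mul_comm, FractionalIdeal.mem_singleton_mul] at hz
  obtain ⟨q, hq, rfl⟩ := hz
  obtain ⟨b, hb, rfl⟩ := (FractionalIdeal.mem_coeIdeal _).1 hq
  obtain ⟨a, ha⟩ := Ideal.mem_span_singleton'.mp (hpϖ ▸ hall b hb)
  refine Submodule.mem_one.mpr ⟨a, ?_⟩
  have htr : Algebra.trace K L (algebraMap B L b) = algebraMap A K (a * ϖ) := by
    rw [← Algebra.algebraMap_intTrace (A := A), ha]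
  have hz' : (algebraMap B L (algebraMap A B ϖ))⁻¹ * algebraMap B L b = (algebraMap A K ϖ)⁻¹ • algebraMap B L b := by
    rw [Algebra.smul_def, map_inv₀, ← IsScalarTower.algebraMap_apply A B L, ← IsScalarTower.algebraMap_apply A K L]
  rw [hz', map_smul, htr, smul_eq_mul, map_mul, mul_comm (algebraMap A K a), ← mul_assoc,
    inv_mul_cancel₀ (IsFractionRing.to_map_eq_zero_iff.not.mpr hϖ.ne_zero), one_mul]

/-- The exponent of the different at a localization is at least the ramification index minus one, with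
equality exactly in the tame case. -/
theorem exponent_spec (P : Ideal B) [P.IsMaximal] (O : Type u) [CommRing O] [IsDomain O] [IsDiscreteValuationRing O]
    [Algebra B O] [IsLocalization.AtPrime O P] [Algebra A O] [IsScalarTower A B O] [IsLocalHom (algebraMap A O)] :
    Ideal.ramificationIdx (maximalIdeal O) A - 1 ≤
        (Module.length O (O ⧸ (differentIdeal A B).map (algebraMap B O))).toNat ∧
      ((Module.length O (O ⧸ (differentIdeal A B).map (algebraMap B O))).toNat =
          Ideal.ramificationIdx (maximalIdeal O) A - 1 ↔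
        Algebra.IsSeparable (ResidueField A) (ResidueField O) ∧
          ((Ideal.ramificationIdx (maximalIdeal O) A : ℕ) : ResidueField A) ≠ 0) := by
  classical
  set p := maximalIdeal A with hp
  have hp0 : p ≠ ⊥ := IsDiscreteValuationRing.not_a_field A
  have hinj : Function.Injective (algebraMap A B) := FaithfulSMul.algebraMap_injective A B
  have hmap0 : p.map (algebraMap A B) ≠ ⊥ := (Ideal.map_eq_bot_iff_of_injective hinj).not.mpr hp0
  have hcomp : algebraMap A O = (algebraMap B O).comp (algebraMap A B) := IsScalarTower.algebraMap_eq A B O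
  have hmO : P.map (algebraMap B O) = maximalIdeal O := IsLocalization.AtPrime.map_eq_maximalIdeal P O
  have hcm : (maximalIdeal O).comap (algebraMap B O) = P := IsLocalization.AtPrime.comap_maximalIdeal O P
  have hover : P.comap (algebraMap A B) = p := by
    rw [← hcm, Ideal.comap_comap, ← hcomp]
    exact maximalIdeal_comap (algebraMap A O)
  haveI : P.LiesOver p := ⟨hover.symm⟩
  have hP0 : P ≠ ⊥ := fun h => by
    rw [h, ← RingHom.ker_eq_comap_bot, (RingHom.injective_iff_ker_eq_bot _).1 hinj] at hover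
    exact hp0 hover.symm
  have hBO : Function.Injective (algebraMap B O) :=
    IsLocalization.injective O P.primeCompl_le_nonZeroDivisors
  have hstd : ∀ I : Ideal B, I ≠ ⊥ → ∃ (j : ℕ) (R : Ideal B), P ⊔ R = ⊤ ∧ I = P ^ j * R ∧
      I.map (algebraMap B O) = maximalIdeal O ^ j := fun I hI => by
    obtain ⟨R, hR, h⟩ := Ideal.eq_prime_pow_mul_coprime hI P
    refine ⟨_, R, hR, h, ?_⟩
    have h' := congrArg (Ideal.map (algebraMap B O)) h
    rw [Ideal.map_mul, Ideal.map_pow, hmO] at h'
    rw [h', show R.map (algebraMap B O) = ⊤ from ?_, Ideal.mul_top]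
    obtain ⟨r, hrR, hrP⟩ := Set.not_subset.1 (fun hle : (R : Set B) ⊆ P => ‹P.IsMaximal›.ne_top (by
      rwa [sup_of_le_left (show R ≤ P from hle)] at hR))
    exact Ideal.eq_top_of_isUnit_mem _ (Ideal.mem_map_of_mem _ hrR) (IsLocalization.map_units O (⟨r, hrP⟩ : P.primeCompl))
  obtain ⟨n, Q, hQ, hpeq, hpO⟩ := hstd _ hmap0
  obtain ⟨N, R, hR, hDeq, hDO⟩ := hstd (differentIdeal A B) differentIdeal_ne_bot
  have hd : (Module.length O (O ⧸ (differentIdeal A B).map (algebraMap B O))).toNat = N := by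
    rw [hDO, IsDiscreteValuationRing.length_quotient_pow_maximalIdeal, ENat.toNat_natCast]
  rw [hd]
  obtain ⟨π, hπ⟩ := IsDiscreteValuationRing.exists_irreducible O
  have hpow : ∀ a b : ℕ, maximalIdeal O ^ a ≤ maximalIdeal O ^ b → b ≤ a := fun a b hab => by
    rw [hπ.maximalIdeal_eq, Ideal.span_singleton_pow, Ideal.span_singleton_pow,
      Ideal.span_singleton_le_span_singleton] at hab
    exact (pow_dvd_pow_iff hπ.ne_zero hπ.not_isUnit).mp hab
  have hAO : p.map (algebraMap A O) = maximalIdeal O ^ n := by rw [hcomp, ← Ideal.map_map, hpO]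
  have hn1 : 1 ≤ n := by
    by_contra h0
    have hle : p.map (algebraMap A O) ≤ maximalIdeal O :=
      Ideal.map_le_iff_le_comap.2 (maximalIdeal_comap (algebraMap A O)).ge
    rw [hAO, show n = 0 by omega, pow_zero, Ideal.one_eq_top] at hle
    exact (maximalIdeal.isMaximal O).ne_top (top_le_iff.1 hle)
  haveI : (maximalIdeal O).LiesOver p := ⟨(maximalIdeal_comap (algebraMap A O)).symm⟩
  have he : Ideal.ramificationIdx (maximalIdeal O) A = n := by
    rw [← Ideal.ramificationIdx'_eq_ramificationIdx' p (maximalIdeal O) (by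
      rw [hAO]; exact pow_ne_zero _ (IsDiscreteValuationRing.not_a_field O))]
    exact Ideal.ramificationIdx'_spec hAO.le fun h => by
      have := hpow _ _ (hAO ▸ h)
      omega
  rw [he]
  have hdvd : ∀ j, P ^ j ∣ differentIdeal A B ↔ j ≤ N := fun j => by
    refine ⟨fun h => hpow _ _ ?_, fun h => ?_⟩
    · rw [← hDO, ← hmO, ← Ideal.map_pow]
      exact Ideal.map_mono (Ideal.le_of_dvd h)
    · rw [hDeq]
      exact (pow_dvd_pow P h).mul_right R
  have hN : n - 1 ≤ N := (hdvd _).1 (pow_sub_one_dvd_differentIdeal A P n hp0 ⟨Q, hpeq⟩)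
  refine ⟨hN, ?_⟩
  have hN' : N = n - 1 ↔ ¬ P ^ n ∣ differentIdeal A B := by rw [hdvd]; omega
  rw [hN', dvd_different_iff_trace A B _ Q hpeq]
  -- the trace modulo the maximal ideal
  have hle : ∀ I : Ideal B, p.map (algebraMap A B) ≤ I → p ≤ I.comap (algebraMap A B) := fun I h =>
    Ideal.map_le_iff_le_comap.1 h
  letI : Algebra (A ⧸ p) (B ⧸ P ^ n) := Ideal.Quotient.algebraQuotientOfLEComap
    (hle _ (hpeq.trans_le Ideal.mul_le_left))
  letI : Algebra (A ⧸ p) (B ⧸ Q) := Ideal.Quotient.algebraQuotientOfLEComap (hle _ (hpeq.trans_le Ideal.mul_le_right))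
  haveI : IsScalarTower A (A ⧸ p) (B ⧸ P ^ n) := .of_algebraMap_eq' rfl
  haveI : IsScalarTower A (A ⧸ p) (B ⧸ Q) := .of_algebraMap_eq' rfl
  haveI : Module.Finite (A ⧸ p) (B ⧸ P ^ n) := Module.Finite.of_restrictScalars_finite A _ _
  haveI : Module.Finite (A ⧸ p) (B ⧸ Q) := Module.Finite.of_restrictScalars_finite A _ _
  have hcop : IsCoprime (P ^ n) Q := (Ideal.isCoprime_iff_sup_eq.2 hQ).pow_left
  let ε : (B ⧸ p.map (algebraMap A B)) ≃ₐ[A ⧸ p] ((B ⧸ P ^ n) × B ⧸ Q) :=
    { __ := (Ideal.quotEquivOfEq hpeq).trans (Ideal.quotientMulEquivQuotientProd (P ^ n) Q hcop),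
      commutes' := Quotient.ind fun _ ↦ rfl }
  -- the uniserial factor
  obtain ⟨ρ, hρ⟩ := (IsPrincipalIdealRing.principal P).principal
  change P = Ideal.span {ρ} at hρ
  have hρ0 : ρ ≠ 0 := fun h => hP0 (by rw [hρ, h, Ideal.span_singleton_zero])
  have hρu : ¬ IsUnit ρ := fun h => ‹P.IsMaximal›.ne_top (by rw [hρ, Ideal.span_singleton_eq_top.2 h])
  set t : B ⧸ P ^ n := Ideal.Quotient.mk _ ρ with ht
  have hmk0 : ∀ b : B, Ideal.Quotient.mk (P ^ n) b = 0 ↔ ρ ^ n ∣ b := fun b => by
    rw [Ideal.Quotient.eq_zero_iff_mem, hρ, Ideal.span_singleton_pow, Ideal.mem_span_singleton]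
  have hspan : ∀ b : B, Ideal.Quotient.mk (P ^ n) b ∈ Ideal.span {t} ↔ b ∈ P := fun b => by
    rw [Ideal.mem_span_singleton]
    refine ⟨fun ⟨c, hc⟩ => ?_, fun h => map_dvd _ (Ideal.mem_span_singleton.1 (hρ ▸ h))⟩
    obtain ⟨c, rfl⟩ := Ideal.Quotient.mk_surjective c
    rw [ht, ← map_mul, Ideal.Quotient.eq] at hc
    have h1 : b - ρ * c ∈ P := Ideal.pow_le_self (by omega) hc
    have h2 : ρ * c ∈ P := by rw [hρ]; exact Ideal.mem_span_singleton.2 (dvd_mul_right ρ c)
    simpa using P.add_mem h1 h2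
  have hunit : ∀ b : B, b ∉ P → IsUnit (Ideal.Quotient.mk (P ^ n) b) := fun b hb => by
    obtain ⟨c, y, hy, h1⟩ := (‹P.IsMaximal›).exists_inv hb
    have hnil : IsNilpotent (Ideal.Quotient.mk (P ^ n) y) := ⟨n, by
      rw [← map_pow, Ideal.Quotient.eq_zero_iff_mem]; exact Ideal.pow_mem_pow hy n⟩
    refine isUnit_of_mul_isUnit_right (x := Ideal.Quotient.mk (P ^ n) c) ?_
    have h2 : Ideal.Quotient.mk (P ^ n) c * Ideal.Quotient.mk (P ^ n) b = 1 - Ideal.Quotient.mk (P ^ n) y := by
      rw [← map_mul, ← map_one (Ideal.Quotient.mk (P ^ n)), ← h1, map_add, add_sub_cancel_right]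
    rw [h2]
    exact hnil.isUnit_one_sub
  have htr := DiffTame.trace_eq_nsmul (k := A ⧸ p) t n
    (by rw [ht, ← map_pow]; exact (hmk0 _).mpr dvd_rfl)
    (fun i hi h0 => by
      rw [ht, ← map_pow, hmk0, pow_dvd_pow_iff hρ0 hρu] at h0
      omega)
    (fun v hv => by
      obtain ⟨b, rfl⟩ := Ideal.Quotient.mk_surjective v
      exact hunit b fun h => hv ((hspan b).mpr h))
    (fun hu => by
      have h1 := Ideal.span_singleton_eq_top.mpr hu
      have h2 : (1 : B) ∈ P := (hspan 1).mp (by rw [h1]; exact Submodule.mem_top)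
      exact ‹P.IsMaximal›.ne_top ((Ideal.eq_top_iff_one _).mpr h2))
  haveI : (Ideal.span {t}).IsMaximal := by
    refine Ideal.isMaximal_iff.mpr ⟨fun h1 => ?_, fun J v hle hv hvJ => ?_⟩
    · exact ‹P.IsMaximal›.ne_top ((Ideal.eq_top_iff_one _).mpr ((hspan 1).mp (by rwa [map_one])))
    · obtain ⟨b, rfl⟩ := Ideal.Quotient.mk_surjective v
      exact (Ideal.eq_top_iff_one J).mp (Ideal.eq_top_of_isUnit_mem _ hvJ (hunit b fun h => hv ((hspan b).mpr h)))
  let f : B →+* (B ⧸ P ^ n) ⧸ Ideal.span {t} := (Ideal.Quotient.mk _).comp (Ideal.Quotient.mk _)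
  have hf : Function.Surjective f := Ideal.Quotient.mk_surjective.comp Ideal.Quotient.mk_surjective
  have hkf : RingHom.ker f = P := Ideal.ext fun b => by
    rw [RingHom.mem_ker, RingHom.comp_apply, Ideal.Quotient.eq_zero_iff_mem, hspan]
  let εB : ResidueField O ≃+* (B ⧸ P ^ n) ⧸ Ideal.span {t} :=
    (IsLocalization.AtPrime.equivQuotMaximalIdeal P O).symm.trans
      ((Ideal.quotEquivOfEq hkf.symm).trans (RingHom.quotientKerEquivOfSurjective hf))
  let εA : ResidueField A ≃+* A ⧸ p := RingEquiv.refl _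
  have hsq : ∀ c, εB (algebraMap (ResidueField A) (ResidueField O) c) =
      algebraMap (A ⧸ p) ((B ⧸ P ^ n) ⧸ Ideal.span {t}) (εA c) := fun c => by
    obtain ⟨a, rfl⟩ := residue_surjective c
    have h1 : algebraMap (ResidueField A) (ResidueField O) (residue A a) =
        IsLocalization.AtPrime.equivQuotMaximalIdeal P O (Ideal.Quotient.mk P (algebraMap A B a)) := by
      rw [IsLocalization.AtPrime.equivQuotMaximalIdeal_apply_mk, ← IsScalarTower.algebraMap_apply A B O]
      rfl
    rw [h1]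
    show (Ideal.quotEquivOfEq hkf.symm).trans (RingHom.quotientKerEquivOfSurjective hf)
      ((IsLocalization.AtPrime.equivQuotMaximalIdeal P O).symm _) = _
    rw [RingEquiv.symm_apply_apply]
    rfl
  have hsep : Algebra.IsSeparable (ResidueField A) (ResidueField O) ↔
      Algebra.IsSeparable (A ⧸ p) ((B ⧸ P ^ n) ⧸ Ideal.span {t}) := by
    constructor
    · intro h
      exact Algebra.IsSeparable.of_equiv_equiv εA εB (RingHom.ext fun c => (hsq c).symm)
    · intro h
      exact Algebra.IsSeparable.of_equiv_equiv εA.symm εB.symm (RingHom.ext fun c => by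
        apply εB.injective
        simp only [RingHom.comp_apply, RingEquiv.coe_toRingHom, RingEquiv.apply_symm_apply]
        rw [hsq, RingEquiv.apply_symm_apply])
  have hred : ∀ x ∈ Q, Algebra.intTrace A B x ∈ p ↔
      n • Algebra.trace (A ⧸ p) ((B ⧸ P ^ n) ⧸ Ideal.span {t}) (f x) = 0 := fun x hx => by
    have h2 : (ε (Ideal.Quotient.mk _ x)).2 = 0 := by simpa [ε, Ideal.Quotient.eq_zero_iff_mem]
    have h1 : (ε (Ideal.Quotient.mk _ x)).1 = Ideal.Quotient.mk (P ^ n) x := by simp [ε]
    rw [← Ideal.Quotient.eq_zero_iff_mem, ← Algebra.trace_quotient_eq_of_isDedekindDomain,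
      ← Algebra.trace_eq_of_algEquiv ε, Algebra.trace_prod_apply, h1, h2, map_zero, add_zero, htr]
    rfl
  simp only [not_forall, hsep, exists_prop]
  constructor
  · rintro ⟨x, hxQ, hx⟩
    rw [hred x hxQ] at hx
    refine ⟨by_contra fun hs => hx ?_, fun h0 => hx ?_⟩
    · rw [Algebra.trace_eq_zero_of_not_isSeparable hs, LinearMap.zero_apply, smul_zero]
    · rw [nsmul_eq_mul, show ((n : ℕ) : A ⧸ p) = 0 from h0, zero_mul]
  · rintro ⟨hs, hn0⟩
    haveI := hs
    obtain ⟨y, hy⟩ : ∃ y, Algebra.trace (A ⧸ p) ((B ⧸ P ^ n) ⧸ Ideal.span {t}) y ≠ 0 := by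
      by_contra! h
      exact Algebra.trace_ne_zero (A ⧸ p) ((B ⧸ P ^ n) ⧸ Ideal.span {t}) (LinearMap.ext h)
    obtain ⟨x₀, hx₀⟩ := hf y
    obtain ⟨u, hu, v, hv, huv⟩ := Submodule.mem_sup.1 (hcop.sup_eq.symm ▸ Submodule.mem_top : x₀ ∈ P ^ n ⊔ Q)
    refine ⟨v, hv, fun hmem => ?_⟩
    rw [hred v hv] at hmem
    have hfv : f v = y := by
      rw [← hx₀, ← huv, map_add, show f u = 0 from ?_, zero_add]
      rw [RingHom.comp_apply, Ideal.Quotient.eq_zero_iff_mem.2 hu, map_zero]
    rw [hfv, nsmul_eq_mul] at hmem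
    exact (mul_eq_zero.1 hmem).elim (fun h => hn0 h) hy

end Groth.Agent.CurveHurwitz18
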