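import Groth.Agent.IntThLib.Norm
import Groth.Agent.CurveHurwitz18.Tame
import Mathlib.RingTheory.Discriminant
import Mathlib.RingTheory.Localization.NormTrace

/-!
# The order of the discriminant of a semilocal extension of a discrete valuation ring
-/

set_option autoImplicit false
set_option linter.style.haveILetI false
set_option linter.unusedSectionVars false
set_option maxHeartbeats 800000

universe u

open IsLocalRing

open scoped nonZeroDivisors

attribute [local instance] FractionRing.liftAlgebra FractionRing.isScalarTower_liftAlgebra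

namespace Groth.Agent.CurveHurwitz18

variable (A B : Type u) [CommRing A] [IsDomain A] [IsDiscreteValuationRing A]
  [CommRing B] [IsDomain B] [IsDedekindDomain B] [Algebra A B] [Module.Finite A B] [Module.IsTorsionFree A B]
  (K L : Type u) [Field K] [Field L] [Algebra A K] [IsFractionRing A K] [Algebra B L] [IsFractionRing B L]
  [Algebra K L] [Algebra A L] [IsScalarTower A B L] [IsScalarTower A K L] [FiniteDimensional K L]

theorem krullDimLE_one : Ring.KrullDimLE 1 A := inferInstance

include K L in
/-- Separability of the fraction rings. -/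
theorem isSeparable_fractionRing [Algebra.IsSeparable K L] :
    Algebra.IsSeparable (FractionRing A) (FractionRing B) := by
  have H : RingHom.comp (algebraMap (FractionRing A) (FractionRing B))
      ↑(FractionRing.algEquiv A K).symm.toRingEquiv =
        RingHom.comp ↑(FractionRing.algEquiv B L).symm.toRingEquiv (algebraMap K L) := by
    apply IsLocalization.ringHom_ext A⁰
    ext
    simp only [RingHom.coe_comp, RingHom.coe_coe,
      AlgEquiv.coe_ringEquiv, Function.comp_apply, AlgEquiv.commutes,
      ← IsScalarTower.algebraMap_apply]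
    rw [IsScalarTower.algebraMap_apply A B L, AlgEquiv.commutes, ← IsScalarTower.algebraMap_apply]
  exact Algebra.IsSeparable.of_equiv_equiv _ _ H

/-- The order of the norm is additive. -/
theorem ordFrac_norm_mul {x y : B} (hx : x ≠ 0) (hy : y ≠ 0) :
    CycAlg.ordFrac A K (Algebra.norm K (algebraMap B L (x * y))) =
      CycAlg.ordFrac A K (Algebra.norm K (algebraMap B L x)) + CycAlg.ordFrac A K (Algebra.norm K (algebraMap B L y)) := by
  rw [map_mul, map_mul, IntThLib.ordFrac_mul]
  · exact Algebra.norm_ne_zero_iff.mpr fun h => hx (IsFractionRing.injective B L (by rwa [map_zero]))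
  · exact Algebra.norm_ne_zero_iff.mpr fun h => hy (IsFractionRing.injective B L (by rwa [map_zero]))

/-- The order of the discriminant of a basis is the length of the algebra modulo a generator of the different. -/
theorem ordFrac_discr [Algebra.IsSeparable K L] {ι : Type u} [Fintype ι] [DecidableEq ι] (c : Module.Basis ι A B)
    {δ : B} (hδ : differentIdeal A B = Ideal.span {δ}) (hδ0 : δ ≠ 0) :
    CycAlg.ordFrac A K (Algebra.discr K (algebraMap B L ∘ c)) =
      ((Module.length A (B ⧸ Ideal.span {δ})).toNat : ℤ) := by
  classical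
  haveI : IsIntegralClosure B A L := IsIntegralClosure.of_isIntegrallyClosed B A L
  haveI : IsLocalization (Algebra.algebraMapSubmonoid B A⁰) L := IsIntegralClosure.isLocalization _ K _ _
  let cK := c.localizationLocalization K A⁰ L
  have hcK : ∀ i, cK i = algebraMap B L (c i) := fun i => Module.Basis.localizationLocalization_apply K A⁰ L c i
  rw [show algebraMap B L ∘ c = cK from funext fun i => (hcK i).symm]
  set ι' := (IsScalarTower.toAlgHom A B L).toLinearMap with hι'
  set M := LinearMap.range ι' with hMdef
  have hM : Submodule.span A (Set.range cK) = M := by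
    rw [show Set.range cK = ι' '' Set.range c by rw [← Set.range_comp]; exact congrArg Set.range (funext hcK),
      Submodule.span_image, c.span_eq, Submodule.map_top]
  let cd := cK.traceDual
  let T := Submodule.span A (Set.range cd)
  haveI := IntThLib.range_isLattice A B K L
  haveI : Submodule.IsLattice K T := IntThLib.isLattice_span (A := A) (w := cd) cd.span_eq.ge
  have hδL : algebraMap B L δ ≠ 0 := fun h => hδ0 (IsFractionRing.injective B L (by rwa [map_zero]))
  -- the dual lattice
  have hT : ∀ x, x ∈ T ↔ ∃ b : B, algebraMap B L b * (algebraMap B L δ)⁻¹ = x := fun x => by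
    have h1 : (FractionalIdeal.dual A K (1 : FractionalIdeal B⁰ L)) =
        FractionalIdeal.spanSingleton B⁰ (algebraMap B L δ)⁻¹ := by
      rw [← inv_inv (FractionalIdeal.dual A K (1 : FractionalIdeal B⁰ L)), ← coeIdeal_differentIdeal A K L B, hδ,
        FractionalIdeal.coeIdeal_span_singleton, FractionalIdeal.spanSingleton_inv]
    have h2 : (Submodule.traceDual A K (1 : Submodule B L)).restrictScalars A = T :=
      Submodule.traceDual_span_of_basis A _ cK (by
        rw [hM, hMdef, Submodule.one_eq_range]
        ext z
        exact Iff.rfl)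
    rw [← h2, Submodule.restrictScalars_mem, ← FractionalIdeal.coe_dual_one, FractionalIdeal.mem_coe, h1,
      FractionalIdeal.mem_spanSingleton]
    simp only [Algebra.smul_def]
  let φm : L →ₗ[K] L := Algebra.lmul K L (algebraMap B L δ)
  have hTM : T.map (φm.restrictScalars A) = M := by
    ext z
    constructor
    · rintro ⟨x, hx, rfl⟩
      obtain ⟨b, rfl⟩ := (hT x).1 hx
      exact ⟨b, by show algebraMap B L b = algebraMap B L δ * _; rw [mul_left_comm, mul_inv_cancel₀ hδL, mul_one]⟩
    · rintro ⟨b, rfl⟩
      exact ⟨_, (hT _).2 ⟨b, rfl⟩, by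
        show algebraMap B L δ * _ = algebraMap B L b
        rw [mul_left_comm, mul_inv_cancel₀ hδL, mul_one]⟩
  have hdet : LinearMap.det φm ≠ 0 := by
    rw [← Algebra.norm_apply]; exact Algebra.norm_ne_zero_iff.mpr hδL
  have h1 := IntThLib.dist_map_eq_ordFrac_det (A := A) T φm hdet
  rw [hTM] at h1
  -- the change of basis
  let φ : L →ₗ[K] L := (cd.equiv cK (Equiv.refl ι)).toLinearMap
  have hφ : ∀ i, φ (cd i) = cK i := fun i => cd.equiv_apply i cK (Equiv.refl ι)
  have hmat : LinearMap.toMatrix cd cd φ = (Algebra.traceMatrix K cK).transpose := by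
    ext i j
    rw [LinearMap.toMatrix_apply, hφ, Matrix.transpose_apply, Algebra.traceMatrix_apply]
    exact LinearMap.BilinForm.dualBasis_repr_apply _ _ _ _
  have hdet' : LinearMap.det φ = Algebra.discr K cK := by
    rw [← LinearMap.det_toMatrix cd, hmat, Matrix.det_transpose, Algebra.discr_def]
  have hφM : T.map (φ.restrictScalars A) = M := by
    rw [← hM, Submodule.map_span, ← Set.range_comp]
    exact congrArg (fun f => Submodule.span A (Set.range f)) (funext hφ)
  have h2 := IntThLib.dist_map_eq_ordFrac_det (A := A) T φ (hdet' ▸ Algebra.discr_not_zero_of_basis K cK)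
  rw [hφM, hdet'] at h2
  rw [← h2, h1, ← Algebra.norm_apply, (IntThLib.length_quotient_eq_ordFrac_norm A B K L δ hδ0).2]

variable [IsPrincipalIdealRing B]

include K L in
/-- The length of a principal quotient, point by point. -/
theorem length_quotient_sum {ι : Type u} [Fintype ι] (P : ι → Ideal B) [∀ i, (P i).IsMaximal]
    (hP : ∀ Q : Ideal B, Q.IsMaximal → ∃! i, P i = Q) (O : ι → Type u) [∀ i, CommRing (O i)] [∀ i, IsDomain (O i)]
    [∀ i, IsDiscreteValuationRing (O i)] [∀ i, Algebra B (O i)] [∀ i, IsLocalization.AtPrime (O i) (P i)]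
    [∀ i, Algebra A (O i)] [∀ i, IsScalarTower A B (O i)] [∀ i, IsLocalHom (algebraMap A (O i))]
    {δ : B} (hδ : δ ≠ 0) :
    ((Module.length A (B ⧸ Ideal.span {δ})).toNat : ℤ) =
      ∑ i, (Module.finrank (ResidueField A) (ResidueField (O i)) : ℤ) *
        (Module.length (O i) (O i ⧸ (Ideal.span {δ}).map (algebraMap B (O i)))).toNat := by
  classical
  haveI := IntThLib.range_isLattice A B K L
  suffices H : ∀ x : B, x ≠ 0 → CycAlg.ordFrac A K (Algebra.norm K (algebraMap B L x)) =
      ∑ i, (Module.finrank (ResidueField A) (ResidueField (O i)) : ℤ) *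
        (Ring.ord (O i) (algebraMap B (O i) x)).toNat by
    rw [(IntThLib.length_quotient_eq_ordFrac_norm A B K L δ hδ).2, H δ hδ]
    refine Finset.sum_congr rfl fun i _ => ?_
    rw [Ring.ord, Ideal.map_span, Set.image_singleton]
  have hinj : ∀ i, Function.Injective (algebraMap B (O i)) := fun i =>
    IsLocalization.injective (O i) (P i).primeCompl_le_nonZeroDivisors
  intro x hx
  induction x using UniqueFactorizationMonoid.induction_on_prime with
  | h₁ => exact absurd rfl hx
  | h₂ x hu =>
    rw [← (IntThLib.length_quotient_eq_ordFrac_norm A B K L x hx).2]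
    have h1 : Module.length A (B ⧸ Ideal.span {x}) = 0 := by
      haveI : Subsingleton (B ⧸ Ideal.span {x}) :=
        Ideal.Quotient.subsingleton_iff.2 (Ideal.span_singleton_eq_top.2 hu)
      exact Module.length_eq_zero
    rw [h1, ENat.toNat_zero, Nat.cast_zero]
    refine (Finset.sum_eq_zero fun i _ => ?_).symm
    rw [Ring.ord_of_isUnit (hu.map (algebraMap B (O i))), ENat.toNat_zero, Nat.cast_zero, mul_zero]
  | h₃ x q hx0 hq ih =>
    rw [ordFrac_norm_mul A B K L hq.ne_zero hx0, ih hx0]
    haveI hmax : (Ideal.span {q}).IsMaximal := PrincipalIdealRing.isMaximal_of_irreducible hq.irreducible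
    obtain ⟨i₀, hi₀, huniq⟩ := hP _ hmax
    have hq' : ∀ i, (Ring.ord (O i) (algebraMap B (O i) q)).toNat = if i = i₀ then 1 else 0 := fun i => by
      by_cases hi : i = i₀
      · subst hi
        rw [if_pos rfl]
        have h1 : Ideal.span {algebraMap B (O i) q} = maximalIdeal (O i) := by
          rw [← Set.image_singleton, ← Ideal.map_span, ← hi₀]
          exact IsLocalization.AtPrime.map_eq_maximalIdeal (P i) (O i)
        rw [Ring.ord, h1, ← pow_one (maximalIdeal (O i)), IsDiscreteValuationRing.length_quotient_pow_maximalIdeal,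
          ENat.toNat_natCast]
      · rw [if_neg hi, Ring.ord_of_isUnit, ENat.toNat_zero]
        refine IsLocalization.map_units (O i) (⟨q, fun hqP => hi (huniq i ?_)⟩ : (P i).primeCompl)
        exact (hmax.eq_of_le Ideal.IsPrime.ne_top' ((Ideal.span_singleton_le_iff_mem _).2 hqP)).symm
    have hres : CycAlg.ordFrac A K (Algebra.norm K (algebraMap B L q)) =
        (Module.finrank (ResidueField A) (ResidueField (O i₀)) : ℤ) := by
      rw [← (IntThLib.length_quotient_eq_ordFrac_norm A B K L q hq.ne_zero).2]
      let g : B →ₗ[A] ResidueField (O i₀) :=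
        { toFun := fun b => residue (O i₀) (algebraMap B (O i₀) b)
          map_add' := fun a b => by simp
          map_smul' := fun a b => by
            simp only [RingHom.id_apply, Algebra.smul_def, map_mul]
            rw [← IsScalarTower.algebraMap_apply A B (O i₀)]
            rfl }
      have hg : Function.Surjective g := fun z => by
        obtain ⟨b, hb⟩ := (IsLocalization.AtPrime.equivQuotMaximalIdeal (P i₀) (O i₀)).surjective z
        obtain ⟨b, rfl⟩ := Ideal.Quotient.mk_surjective b
        exact ⟨b, hb⟩
      have hker : LinearMap.ker g = (Ideal.span {q}).restrictScalars A := by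
        ext b
        rw [LinearMap.mem_ker, Submodule.restrictScalars_mem, ← hi₀,
          ← IsLocalization.AtPrime.comap_maximalIdeal (O i₀) (P i₀), Ideal.mem_comap]
        exact residue_eq_zero_iff _
      haveI : Module.Finite (ResidueField A) (ResidueField (O i₀)) := by
        haveI : Module.Finite A (ResidueField (O i₀)) := Module.Finite.of_surjective g hg
        exact Module.Finite.of_restrictScalars_finite A _ _
      rw [((Submodule.Quotient.restrictScalarsEquiv A (Ideal.span {q})).symm.trans
          ((Submodule.quotEquivOfEq _ _ hker.symm).trans (g.quotKerEquivOfSurjective hg))).length_eq,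
        Module.length_eq_of_surjective (R := ResidueField A) (S := A) Ideal.Quotient.mk_surjective,
        Module.length_eq_finrank, ENat.toNat_natCast]
    rw [hres]
    have hsum : ∀ i, ((Ring.ord (O i) (algebraMap B (O i) (q * x))).toNat : ℤ) =
        (if i = i₀ then 1 else 0 : ℕ) + (Ring.ord (O i) (algebraMap B (O i) x)).toNat := fun i => by
      have hx' : algebraMap B (O i) x ∈ (O i)⁰ :=
        mem_nonZeroDivisors_of_ne_zero fun h => hx0 (hinj i (by rwa [map_zero]))
      have hq0 : algebraMap B (O i) q ∈ (O i)⁰ :=
        mem_nonZeroDivisors_of_ne_zero fun h => hq.ne_zero (hinj i (by rwa [map_zero]))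
      rw [map_mul, Ring.ord_mul (O i) hx', ENat.toNat_add (Ring.ord_ne_top hq0) (Ring.ord_ne_top hx'), hq', Nat.cast_add]
    simp only [hsum, mul_add, Finset.sum_add_distrib]
    simp

/-- The order of the discriminant, point by point. -/
theorem ordFrac_discr_sum [Algebra.IsSeparable K L] {κ : Type u} [Fintype κ] [DecidableEq κ] (c : Module.Basis κ A B)
    {ι : Type u} [Fintype ι] (P : ι → Ideal B) [∀ i, (P i).IsMaximal]
    (hP : ∀ Q : Ideal B, Q.IsMaximal → ∃! i, P i = Q) (O : ι → Type u) [∀ i, CommRing (O i)] [∀ i, IsDomain (O i)]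
    [∀ i, IsDiscreteValuationRing (O i)] [∀ i, Algebra B (O i)] [∀ i, IsLocalization.AtPrime (O i) (P i)]
    [∀ i, Algebra A (O i)] [∀ i, IsScalarTower A B (O i)] [∀ i, IsLocalHom (algebraMap A (O i))] :
    CycAlg.ordFrac A K (Algebra.discr K (algebraMap B L ∘ c)) =
      ∑ i, (Module.finrank (ResidueField A) (ResidueField (O i)) : ℤ) *
        (Module.length (O i) (O i ⧸ (differentIdeal A B).map (algebraMap B (O i)))).toNat := by
  haveI := isSeparable_fractionRing A B K L
  obtain ⟨δ, hδ⟩ := (IsPrincipalIdealRing.principal (differentIdeal A B)).principal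
  change differentIdeal A B = Ideal.span {δ} at hδ
  have hδ0 : δ ≠ 0 := fun h => differentIdeal_ne_bot (A := A) (B := B) (by rw [hδ, h, Ideal.span_singleton_zero])
  rw [ordFrac_discr A B K L c hδ hδ0, length_quotient_sum A B K L P hP O hδ0, hδ]

end Groth.Agent.CurveHurwitz18
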