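import Groth.Agent.CurveHurwitz18.Discr
import Groth.Agent.IntThLib.Lattice
import Groth.Agent.CurveCohLib.Skyscraper
import Groth.Agent.CurveEmbed.Points
import Groth.Agent.GenusOneSS.Free
import Groth.Agent.NodeFam.QuadStalk

/-!
# Discriminants of two lattices, finiteness of divisors and Euler characteristics of skyscrapers
-/

set_option autoImplicit false
set_option linter.style.haveILetI false
set_option linter.unusedSectionVars false
set_option backward.isDefEq.respectTransparency false
set_option backward.isDefEq.respectTransparency.types false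
set_option maxHeartbeats 1000000

universe u

open CategoryTheory CategoryTheory.Limits AlgebraicGeometry TopologicalSpace Opposite

noncomputable section

namespace Groth.Agent.CurveHurwitz18

open Groth.Agent Groth.Agent.CurveCohLib Groth.Agent.AModX

section Algebra

variable {A K L : Type u} [CommRing A] [IsDomain A] [IsNoetherianRing A] [Ring.KrullDimLE 1 A]
  [Field K] [Algebra A K] [IsFractionRing A K] [Field L] [Algebra K L] [Algebra A L] [IsScalarTower A K L]
  [Algebra.IsSeparable K L] [FiniteDimensional K L]

omit [FiniteDimensional K L] in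
theorem discr_change {ι : Type u} [Fintype ι] [DecidableEq ι] (b c : Module.Basis ι K L) :
    Algebra.discr K c = LinearMap.det (b.equiv c (Equiv.refl ι)).toLinearMap ^ 2 * Algebra.discr K b := by
  have hmat : LinearMap.toMatrix b b (b.equiv c (Equiv.refl ι)).toLinearMap = b.toMatrix c := by
    ext i j
    rw [LinearMap.toMatrix_apply, Module.Basis.toMatrix_apply]
    exact congrArg (fun v => b.repr v i) (b.equiv_apply j c (Equiv.refl ι))
  rw [← LinearMap.det_toMatrix b, hmat, ← Algebra.discr_of_matrix_vecMul, Module.Basis.toMatrix_map_vecMul]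

omit [Algebra.IsSeparable K L] in
theorem dist_change (B C : Submodule A L) [Submodule.IsLattice K B] [Submodule.IsLattice K C]
    (φ : L →ₗ[K] L) (hmap : B.map (φ.restrictScalars A) = C) (hd0 : LinearMap.det φ ≠ 0) :
    CycAlg.ordFrac A K (LinearMap.det φ) =
      ((IntThLib.relLen A (B ⊔ C) C).toNat : ℤ) - ((IntThLib.relLen A (B ⊔ C) B).toNat : ℤ) := by
  haveI hRl : Submodule.IsLattice K (B ⊔ C) := ⟨(Submodule.IsLattice.fg (A := K) (M := B)).sup
    (Submodule.IsLattice.fg (A := K) (M := C)), eq_top_iff.2 ((Submodule.IsLattice.span_eq_top (A := K) (M := B)).ge.trans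
      (Submodule.span_mono (SetLike.coe_subset_coe.2 (le_sup_left : B ≤ B ⊔ C))))⟩
  have hdist := IntThLib.dist_map_eq_ordFrac_det B φ hd0
  rw [hmap] at hdist
  have hadd := IntThLib.dist_add (K := K) (B ⊔ C) B C
  rw [IntThLib.dist_of_le (le_sup_left : B ≤ B ⊔ C), IntThLib.dist_of_le (le_sup_right : C ≤ B ⊔ C), hdist] at hadd
  rw [hadd]
  ring

theorem ordFrac_sq_mul {d e : K} (hd : d ≠ 0) (he : e ≠ 0) :
    CycAlg.ordFrac A K (d ^ 2 * e) = 2 * CycAlg.ordFrac A K d + CycAlg.ordFrac A K e := by
  rw [IntThLib.ordFrac_mul (pow_ne_zero 2 hd) he, sq, IntThLib.ordFrac_mul hd hd]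
  ring

/-- Orders of discriminants of two bases compare as the lattices they span. -/
theorem ordFrac_discr_change {ι : Type u} [Fintype ι] [DecidableEq ι] (b c : Module.Basis ι K L) :
    CycAlg.ordFrac A K (Algebra.discr K c) = CycAlg.ordFrac A K (Algebra.discr K b) +
      2 * (((IntThLib.relLen A (Submodule.span A (Set.range b) ⊔ Submodule.span A (Set.range c))
            (Submodule.span A (Set.range c))).toNat : ℤ) -
          ((IntThLib.relLen A (Submodule.span A (Set.range b) ⊔ Submodule.span A (Set.range c))
            (Submodule.span A (Set.range b))).toNat : ℤ)) := by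
  haveI := IntThLib.isLattice_span (A := A) (w := b) b.span_eq.ge
  haveI := IntThLib.isLattice_span (A := A) (w := c) c.span_eq.ge
  have hdisc := discr_change b c
  have hc0 : Algebra.discr K c ≠ 0 := Algebra.discr_not_zero_of_basis K c
  have hd0 : LinearMap.det (b.equiv c (Equiv.refl ι)).toLinearMap ≠ 0 := fun h => hc0 (by rw [hdisc, h]; ring)
  have hmap : (Submodule.span A (Set.range b)).map ((b.equiv c (Equiv.refl ι)).toLinearMap.restrictScalars A) =
      Submodule.span A (Set.range c) := by
    rw [Submodule.map_span, ← Set.range_comp]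
    exact congrArg (fun g => Submodule.span A (Set.range g)) (funext fun i => b.equiv_apply i c (Equiv.refl ι))
  rw [hdisc, ordFrac_sq_mul hd0 (Algebra.discr_not_zero_of_basis K b), dist_change _ _ _ hmap hd0]
  ring

end Algebra

section Ord

variable {X : Scheme.{u}} (k : Type u) [Field k] [X.Over (Spec (CommRingCat.of k))] [IsIntegral X]
  [IsProper (X ↘ Spec (CommRingCat.of k))]

/-- A unit of the local ring has order zero. -/
theorem ordFrac_eq_zero_of_isUnit {A K : Type u} [CommRing A] [IsDomain A] [IsNoetherianRing A]
    [Ring.KrullDimLE 1 A] [Field K] [Algebra A K] [IsFractionRing A K] {u : A} (hu : IsUnit u) :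
    CycAlg.ordFrac A K (algebraMap A K u) = 0 := by
  obtain ⟨v, hv⟩ := hu.exists_left_inv
  have h0 : ∀ a : A, IsUnit a → algebraMap A K a ≠ 0 := fun a ha => (ha.map (algebraMap A K)).ne_zero
  have hv' : IsUnit v := IsUnit.of_mul_eq_one u hv
  have h1 := IntThLib.ordFrac_mul (A := A) (h0 v hv') (h0 u hu)
  rw [← map_mul, hv, map_one, IntThLib.ordFrac_one, IntThLib.ordFrac_algebraMap hv'.ne_zero,
    IntThLib.ordFrac_algebraMap hu.ne_zero] at h1
  rw [IntThLib.ordFrac_algebraMap hu.ne_zero]
  omega

include k in
/-- A rational function has finitely many zeros and poles. -/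
theorem finite_setOf_ordFrac_ne_zero (hdX : topologicalKrullDim X = 1) (hnX : Pi1.IsNormalScheme X)
    {g : X.functionField} (hg : g ≠ 0) :
    {x : X | IsClosed ({x} : Set X) ∧ CycAlg.ordFrac (X.presheaf.stalk x) X.functionField g ≠ 0}.Finite := by
  haveI := CurveCohLib.isNoetherian_of_proper (k := k) (X := X)
  obtain ⟨_, ⟨V, hV, rfl⟩, hηV, -⟩ :=
    X.isBasis_affineOpens.exists_subset_of_mem_open (Set.mem_univ (genericPoint X)) isOpen_univ
  haveI : Nonempty V := ⟨⟨_, hηV⟩⟩
  haveI := functionField_isFractionRing_of_isAffineOpen X V hV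
  obtain ⟨a, b, hb, hab⟩ := IsFractionRing.div_surjective (A := Γ(X, V)) g
  have hunit : ∀ r : Γ(X, V), algebraMap Γ(X, V) X.functionField r ≠ 0 → genericPoint X ∈ X.basicOpen r :=
    fun r hr => (X.mem_basicOpen r _ hηV).2 (isUnit_iff_ne_zero.2 hr)
  have hb0 : algebraMap Γ(X, V) X.functionField b ≠ 0 := fun h =>
    hg (by rw [← hab, h, div_zero])
  have ha0 : algebraMap Γ(X, V) X.functionField a ≠ 0 := fun h =>
    hg (by rw [← hab, h, zero_div])
  let U : X.Opens := X.basicOpen a ⊓ X.basicOpen b
  have hηU : genericPoint X ∈ U := ⟨hunit a ha0, hunit b hb0⟩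
  refine (CurveCohLib.finite_of_closedPoints (X := X) U.2.isClosed_compl fun x hx => ?_).subset ?_
  · by_contra hc
    exact hx (CurveCohLib.eq_genericPoint_of_not_isClosed hdX hc ▸ hηU)
  · rintro x ⟨hx, hord⟩ hxU
    refine hord ?_
    haveI : IsDomain (X.presheaf.stalk x) := (hnX x).1
    haveI : IsDiscreteValuationRing (X.presheaf.stalk x) := CurveEmbed.isDVR_of_normal k hdX hx (hnX x).2
    have hxV : x ∈ V := X.basicOpen_le a hxU.1
    have hua := (X.mem_basicOpen a x hxV).1 hxU.1
    have hub := (X.mem_basicOpen b x hxV).1 hxU.2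
    have hmap : ∀ r : Γ(X, V), algebraMap Γ(X, V) X.functionField r =
        algebraMap (X.presheaf.stalk x) X.functionField (X.presheaf.germ V x hxV r) := fun r =>
      (X.algebraMap_germ_eq_germToFunctionField hxV r).symm
    rw [← hab, hmap, hmap, div_eq_mul_inv, IntThLib.ordFrac_mul (by rwa [← hmap]) (inv_ne_zero (by rwa [← hmap])),
      ordFrac_eq_zero_of_isUnit hua, zero_add]
    obtain ⟨v, hv⟩ := hub.exists_left_inv
    have hv1 : (algebraMap (X.presheaf.stalk x) X.functionField (X.presheaf.germ V x hxV b))⁻¹ =
        algebraMap (X.presheaf.stalk x) X.functionField v :=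
      inv_eq_of_mul_eq_one_left (by rw [← map_mul, hv, map_one])
    rw [hv1, ordFrac_eq_zero_of_isUnit (IsUnit.of_mul_eq_one _ hv)]

end Ord

section Length

open IsLocalRing

variable {A : Type u} [CommRing A] [IsLocalRing A] (k : Type u) [Field k] [Algebra k A]

/-- The dimension over the base of a module of finite length over a local algebra. -/
theorem length_eq_mul_length (M : Type u) [AddCommGroup M] [Module A M] (hM : IsFiniteLength A M) :
    ∀ [Module k M] [IsScalarTower k A M],
      Module.length k M = Module.length k (ResidueField A) * Module.length A M := by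
  induction hM with
  | @of_subsingleton M _ _ _ =>
    intro _ _
    rw [Module.length_eq_zero (R := k) (M := M), Module.length_eq_zero (R := A) (M := M), mul_zero]
  | @of_simple_quotient M _ _ N hs _ ih =>
    intro _ _
    obtain ⟨m, hm, ⟨e⟩⟩ := isSimpleModule_iff_quot_maximal.mp hs
    obtain rfl := IsLocalRing.eq_maximalIdeal hm
    rw [Module.length_eq_add_of_exact (N.subtype.restrictScalars k) (N.mkQ.restrictScalars k)
      (Submodule.injective_subtype N) (Submodule.mkQ_surjective N) (LinearMap.exact_subtype_mkQ N),
      Module.length_eq_add_of_exact N.subtype N.mkQ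
      (Submodule.injective_subtype N) (Submodule.mkQ_surjective N) (LinearMap.exact_subtype_mkQ N),
      ih, mul_add]
    congr 1
    rw [(e.restrictScalars k).length_eq, Module.length_eq_one (R := A) (M := M ⧸ N), mul_one]
    rfl

/-- The same for dimensions. -/
theorem finrank_eq_mul_length [Module.Finite k (ResidueField A)] (M : Type u) [AddCommGroup M] [Module A M]
    [Module k M] [IsScalarTower k A M] [Module.Finite k M] :
    Module.finrank k M = Module.finrank k (ResidueField A) * (Module.length A M).toNat := by
  haveI : _root_.IsNoetherian A M := isNoetherian_of_tower k (inferInstance : _root_.IsNoetherian k M)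
  haveI : IsArtinian A M := isArtinian_of_tower k (inferInstance : IsArtinian k M)
  have h := length_eq_mul_length k M ((isFiniteLength_iff_isNoetherian_isArtinian (R := A) (M := M)).2 ⟨inferInstance, inferInstance⟩)
  rw [Module.length_eq_finrank k M, Module.length_eq_finrank k (ResidueField A)] at h
  have h2 := congrArg ENat.toNat h
  rwa [ENat.toNat_mul, ENat.toNat_natCast, ENat.toNat_natCast] at h2

end Length

section Euler

open Groth.Agent.GenusOneSS

variable {X : Scheme.{u}} (k : Type u) [Field k] [X.Over (Spec (CommRingCat.of k))] [IsIntegral X]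
  [IsProper (X ↘ Spec (CommRingCat.of k))]

include k in
theorem isCoh_freeMod (n : ℕ) : Coh.IsCoh (FlatMod.freeMod X n) := by
  haveI := CurveCohLib.isNoetherian_of_proper (k := k) (X := X)
  exact CurveDeg.isCoh_of_isFinLocFree (isFinLocFree_freeMod n)

/-- The Euler characteristic of a free module. -/
theorem euler_freeMod (n : ℕ) :
    Curv2.euler k X (FlatMod.freeMod X n) = n * Curv2.euler k X (Coh.structureModule X) := by
  haveI := CurveCohLib.isNoetherian_of_proper (k := k) (X := X)
  induction n with
  | zero => rw [CurveSlope.euler_eq_zero_of_isZero k (KFlatLib.isZero_freeMod_zero)]; simp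
  | succ n ih =>
    have h := CurveCohLib.euler_additive (k := k) (shortExact_last (X := X) n) QCoh.isCoh_structureModule'
      (isCoh_freeMod k _) (isCoh_freeMod k _)
    dsimp only at h
    rw [h, ih]
    push_cast
    ring

/-- The Euler characteristic of a skyscraper in terms of lengths. -/
theorem euler_eq_sum_lengths {M : X.Modules} (hM : Coh.IsCoh M)
    (h0 : ∀ x ∈ CohB1.support M, IsClosed ({x} : Set X)) (S : Finset X) (hS : CohB1.support M ⊆ S)
    (hScl : ∀ x ∈ S, IsClosed ({x} : Set X)) :
    letI := fun x : X => Curv2.resAlgebra k X x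
    Curv2.euler k X M = ∑ x ∈ S, (Module.finrank k (X.residueField x) : ℤ) *
      ((Module.length (X.presheaf.stalk x) (M.presheaf.stalk x)).toNat : ℤ) := by
  letI := fun x : X => Curv2.resAlgebra k X x
  letI := fun x : X => CurveCohLib.stalkModuleK k M x
  obtain ⟨h, hfin⟩ := CurveCohLib.euler_eq_sum_stalks (k := k) hM h0 S hS
  rw [h]
  refine Finset.sum_congr rfl fun x hx => ?_
  letI := Curv2.stalkAlgebra k X x
  haveI : IsScalarTower k (X.presheaf.stalk x) (M.presheaf.stalk x) :=
    IsScalarTower.of_algebraMap_smul fun _ _ => rfl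
  haveI : Module.Finite k (M.presheaf.stalk x) := hfin x hx
  haveI : Module.Finite k (X.residueField x) :=
    NodeFam.finite_residueField_of_isClosed (X ↘ Spec (CommRingCat.of k)) (hScl x hx) fun _ => rfl
  haveI : Module.Finite k (IsLocalRing.ResidueField (X.presheaf.stalk x)) := ‹Module.Finite k (X.residueField x)›
  rw [← Nat.cast_mul]
  exact congrArg Nat.cast (finrank_eq_mul_length k (M.presheaf.stalk x))

end Euler

end Groth.Agent.CurveHurwitz18
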