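import Groth.Agent.CurveHurwitz18.Stalk
import Groth.Agent.CurveHurwitz18.Euler
import Groth.Agent.CurveCohLib.Proper
import Groth.Agent.QCoh.Qcqs
import Groth.Agent.QCoh.Support
import Groth.Agent.S1860
import Groth.Agent.PnCoh.PushNat

/-!
# The Euler characteristic of a finite cover of curves and the discriminants of its lattices
-/

set_option autoImplicit false
set_option linter.style.haveILetI false
set_option linter.unusedSectionVars false
set_option backward.isDefEq.respectTransparency false
set_option backward.isDefEq.respectTransparency.types false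
set_option maxHeartbeats 1000000
set_option synthInstance.maxHeartbeats 200000

universe u

open CategoryTheory CategoryTheory.Limits AlgebraicGeometry TopologicalSpace Opposite

noncomputable section

namespace Groth.Agent.CurveHurwitz18

open Groth.Agent Groth.Agent.CurveCohLib Groth.Agent.CurveCohLib.Polar Groth.Agent.AModX
open Groth.Agent.CurveTrace (ff gen_mem ff_gη)

/-- The length of a quotient of a submodule seen in an ambient module. -/
theorem length_quotient_eq_relLen {A M V : Type u} [CommRing A] [AddCommGroup M] [Module A M] [AddCommGroup V]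
    [Module A V] (Ψ : M →ₗ[A] V) (hΨ : Function.Injective Ψ) (N : Submodule A M) :
    Module.length A (M ⧸ N) = IntThLib.relLen A (LinearMap.range Ψ) (N.map Ψ) := by
  refine LinearEquiv.length_eq (Submodule.Quotient.equiv N _ (LinearEquiv.ofInjective Ψ hΨ) ?_)
  ext ⟨z, m, rfl⟩
  simp only [Submodule.submoduleOf, Submodule.mem_comap, Submodule.subtype_apply, Submodule.mem_map]
  constructor
  · rintro ⟨x, hx, hxm⟩
    exact ⟨x, hx, congrArg Subtype.val hxm⟩
  · rintro ⟨x, hx, hxm⟩
    exact ⟨x, hx, Subtype.ext hxm⟩

/-- A map given by linearly independent values on generators is injective. -/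
theorem injective_of_total {A F V : Type u} [CommRing A] [AddCommGroup F] [Module A F] [AddCommGroup V]
    [Module A V] {n : ℕ} (L : F →ₗ[A] V) (b : Fin n → V) (hb : LinearIndependent A b) (v : Fin n → F)
    (hv : ∀ i, L (v i) = b i) (hw : ∀ w, ∃ a : Fin n → A, w = ∑ i, a i • v i) : Function.Injective L := by
  refine (injective_iff_map_eq_zero L).2 fun w h => ?_
  obtain ⟨a, rfl⟩ := hw w
  rw [map_sum] at h
  simp only [map_smul, hv] at h
  have h0 := Fintype.linearIndependent_iff.1 hb a h
  simp [h0]

/-- A submodule containing a spanning set is everything when the scalars surject. -/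
theorem eq_top_of_surjective {A K V : Type u} [CommRing A] [CommRing K] [Algebra A K] [AddCommGroup V] [Module A V]
    [Module K V] [IsScalarTower A K V] (h : Function.Surjective (algebraMap A K)) (M : Submodule A V)
    (s : Set V) (hs : Submodule.span K s = ⊤) (hsM : s ⊆ M) : M = ⊤ := by
  have h1 : Submodule.span A s = ⊤ := by
    rw [← Submodule.restrictScalars_span A K h s, hs, Submodule.restrictScalars_top]
  exact eq_top_iff.2 (h1.ge.trans (Submodule.span_le.2 hsM))

section Field

variable {X : Scheme.{u}} (k : Type u) [Field k] [X.Over (Spec (CommRingCat.of k))]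

/-- The residue degree over a field is the dimension of the residue field. -/
theorem residueDegree_eq_finrank (x : X) :
    letI := Curv2.resAlgebra k X x
    (X ↘ Spec (CommRingCat.of k)).residueDegree x = Module.finrank k (X.residueField x) := by
  letI := Curv2.resAlgebra k X x
  letI : Field (CommRingCat.of k) := ‹Field k›
  letI := ((X ↘ Spec (CommRingCat.of k)).residueFieldMap x).hom.toAlgebra
  let c : k →+* (Spec (CommRingCat.of k)).residueField ((X ↘ Spec (CommRingCat.of k)) x) :=
    ((Spec (CommRingCat.of k)).Γevaluation ((X ↘ Spec (CommRingCat.of k)) x)).hom.comp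
      (Scheme.ΓSpecIso (CommRingCat.of k)).inv.hom
  have hc : Function.Bijective c := ⟨c.injective, fun z => by
    obtain ⟨w, hw⟩ := WeilLib.surjective_resHom_spec (k₀ := k) ((X ↘ Spec (CommRingCat.of k)) x) z
    exact ⟨w, hw⟩⟩
  refine (Algebra.finrank_eq_of_equiv_equiv (RingEquiv.ofBijective c hc) (RingEquiv.refl _) ?_).symm
  ext a
  exact Scheme.Γevaluation_naturality_apply (X ↘ Spec (CommRingCat.of k)) x _

end Field

variable {X Y : Scheme.{u}} [IsIntegral X] [IsIntegral Y] {f : X ⟶ Y} (e : f (genericPoint X) = genericPoint Y)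
  [Algebra Y.functionField X.functionField] (halg : algebraMap Y.functionField X.functionField = ff e)

/-- The action of a local ring of the base on the rational functions upstairs. -/
abbrev locAlg (X : Scheme.{u}) [IsIntegral X] {Y : Scheme.{u}} [IsIntegral Y]
    [Algebra Y.functionField X.functionField] (y : Y) : Algebra (Y.presheaf.stalk y) X.functionField :=
  ((algebraMap Y.functionField X.functionField).comp (algebraMap (Y.presheaf.stalk y) Y.functionField)).toAlgebra

theorem surjective_algebraMap_gen {y : Y} (h : y = genericPoint Y) :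
    Function.Surjective (algebraMap (Y.presheaf.stalk y) Y.functionField) := fun z => by
  obtain ⟨W, hW, r, rfl⟩ := Y.presheaf.exists_germ_eq z
  haveI : Nonempty W := ⟨⟨_, hW⟩⟩
  exact ⟨Y.presheaf.germ W y (h ▸ hW) r, Y.algebraMap_germ_eq_germToFunctionField (h ▸ hW) r⟩

section Point

variable (y : Y) [Algebra (Y.presheaf.stalk y) X.functionField]
  [IsScalarTower (Y.presheaf.stalk y) Y.functionField X.functionField]

include e halg in
theorem injective_sm_incDir : Function.Injective (TFOneX.sm (incDir f) y) := by
  refine (injective_iff_map_eq_zero _).2 fun w hw => ?_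
  obtain ⟨W, hy, s, rfl⟩ := (dir f).presheaf.exists_germ_eq w
  have h := congrArg (psi e halg y) hw
  rw [psi_incDir, map_zero] at h
  have hs : (show Γ(X, f ⁻¹ᵁ W) from s) = 0 := gη_injective (gen_mem e hy) (h.trans (map_zero _).symm)
  rw [show s = 0 from hs, map_zero]

include e halg in
theorem injective_sm_incFree {n : ℕ} (b : Fin n → X.functionField) (hb : LinearIndependent Y.functionField b) :
    Function.Injective (TFOneX.sm (incFree f b) y) := by
  have hA : LinearIndependent (Y.presheaf.stalk y) b :=
    hb.restrict_scalars (by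
      intro a a' h
      simp only [Algebra.smul_def, mul_one] at h
      exact IsFractionRing.injective (Y.presheaf.stalk y) Y.functionField h)
  have hinj : Function.Injective (psi e halg y ∘ₗ TFOneX.sm (incFree f b) y) := by
    refine injective_of_total _ b hA (fun i => TFOneX.sm (H23.Frame.incl Y n i) y
      ((Coh.structureModule Y).presheaf.germ ⊤ y trivial (1 : Γ(Y, ⊤)))) (fun i => ?_) fun w => ?_
    · rw [LinearMap.comp_apply, ← TFOneX.sm_comp]
      exact psi_free_one e halg y b i
    · choose a ha using fun i => CurveCohLib.GlobGen.exists_smul_one y (TFOneX.sm (H23.Frame.proj Y n i) y w)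
      refine ⟨a, (sm_total y n w).trans (Finset.sum_congr rfl fun i _ => ?_)⟩
      rw [ha i, map_smul]
  exact fun a a' h => hinj (congrArg (psi e halg y) h)

theorem range_psi_of_epi {F G : Y.Modules} (p : F ⟶ G) [Epi p] (j : G ⟶ amb f) :
    LinearMap.range (psi e halg y ∘ₗ TFOneX.sm j y) = LinearMap.range (psi e halg y ∘ₗ TFOneX.sm (p ≫ j) y) := by
  refine le_antisymm ?_ ?_
  · rintro _ ⟨w, rfl⟩
    obtain ⟨v, rfl⟩ := TFOneX.surjective_sm p y w
    exact ⟨v, congrArg (psi e halg y) (TFOneX.sm_comp p j y v)⟩
  · rintro _ ⟨w, rfl⟩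
    exact ⟨TFOneX.sm p y w, congrArg (psi e halg y) (TFOneX.sm_comp p j y w).symm⟩

/-- The stalk of the cokernel between two lattices. -/
theorem length_stalk_cokernel {F G : Y.Modules} (v : F ⟶ G) (j : G ⟶ amb f) [Mono j] :
    Module.length (Y.presheaf.stalk y) ((cokernel v).presheaf.stalk y) =
      IntThLib.relLen (Y.presheaf.stalk y) (LinearMap.range (psi e halg y ∘ₗ TFOneX.sm j y))
        (LinearMap.range (psi e halg y ∘ₗ TFOneX.sm (v ≫ j) y)) := by
  let iso := PreservesCokernel.iso (DerSch.stalkFunctor Y y) v ≪≫ ModuleCat.cokernelIsoRangeQuotient _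
  refine (LinearEquiv.length_eq iso.toLinearEquiv).trans ?_
  have hinj : Function.Injective (psi e halg y ∘ₗ TFOneX.sm j y) :=
    (psi_injective e halg y).comp (TFOneX.injective_sm j y)
  refine (length_quotient_eq_relLen _ hinj _).trans ?_
  refine congrArg (IntThLib.relLen _ _) ?_
  rw [← LinearMap.range_comp]
  exact congrArg LinearMap.range (LinearMap.ext fun w => (congrArg (psi e halg y) (TFOneX.sm_comp v j y w)).symm)

end Point

section Global

variable (k : Type u) [Field k] [X.Over (Spec (CommRingCat.of k))] [Y.Over (Spec (CommRingCat.of k))]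
  [IsProper (X ↘ Spec (CommRingCat.of k))] [IsProper (Y ↘ Spec (CommRingCat.of k))] [IsFinite f]
  [FiniteDimensional Y.functionField X.functionField] [Algebra.IsSeparable Y.functionField X.functionField]

theorem isQCoh_amb : Coh.IsQCoh (amb f) := by
  haveI : Subsingleton ↥(Spec (X.presheaf.stalk (genericPoint X))) :=
    (inferInstance : Subsingleton (PrimeSpectrum X.functionField))
  haveI : QuasiCompact (X.fromSpecStalk (genericPoint X)) :=
    ⟨fun _ _ _ => Set.subsingleton_of_subsingleton.isCompact⟩
  haveI : QuasiSeparated (X.fromSpecStalk (genericPoint X)) := inferInstance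
  exact QCoh.isQCoh_pushforward f (QCoh.isQCoh_pushforward _ QCoh.isQCoh_structureModule)

include k in
/-- Twice the defect of the Euler characteristics is the degree of the discriminant divisor. -/
theorem euler_defect (hf : f ≫ (Y ↘ Spec (CommRingCat.of k)) = X ↘ Spec (CommRingCat.of k))
    (hdX : topologicalKrullDim X = 1) (hdY : topologicalKrullDim Y = 1) (hnY : Pi1.IsNormalScheme Y)
    (D : Y → ℤ)
    (hD : ∀ y : Y, IsClosed ({y} : Set Y) → letI := locAlg X y
      haveI : IsScalarTower (Y.presheaf.stalk y) Y.functionField X.functionField :=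
        IsScalarTower.of_algebraMap_eq fun _ => rfl
      ∃ (ι : Type u) (_ : Fintype ι) (_ : DecidableEq ι) (c : Module.Basis ι Y.functionField X.functionField),
        latDir e halg y = Submodule.span (Y.presheaf.stalk y) (Set.range c) ∧
        D y = CycAlg.ordFrac (Y.presheaf.stalk y) Y.functionField (Algebra.discr Y.functionField c)) :
    ∃ T : Finset Y, (∀ y ∈ T, IsClosed ({y} : Set Y)) ∧ (∀ y : Y, IsClosed ({y} : Set Y) → y ∉ T → D y = 0) ∧
      letI := fun y : Y => Curv2.resAlgebra k Y y
      2 * ((Module.finrank Y.functionField X.functionField : ℤ) * Curv2.euler k Y (Coh.structureModule Y)) -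
          2 * Curv2.euler k X (Coh.structureModule X) =
        ∑ y ∈ T, (Module.finrank k (Y.residueField y) : ℤ) * D y := by
  classical
  haveI := CurveCohLib.isNoetherian_of_proper (k := k) (X := X)
  haveI := CurveCohLib.isNoetherian_of_proper (k := k) (X := Y)
  let n := Module.finrank Y.functionField X.functionField
  let b := Module.finBasis Y.functionField X.functionField
  have hT : ∀ y : Y, letI := locAlg X y
      IsScalarTower (Y.presheaf.stalk y) Y.functionField X.functionField := fun y =>
    letI := locAlg X y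
    IsScalarTower.of_algebraMap_eq fun _ => rfl
  let m : dir f ⊞ FlatMod.freeMod Y n ⟶ amb f := biprod.desc (incDir f) (incFree f b)
  let R := Abelian.coimage m
  let p := Abelian.coimage.π m
  let j := Abelian.factorThruCoimage m
  have hpj : p ≫ j = m := Abelian.coimage.fac m
  have hdirC : Coh.IsCoh (dir f) := QCoh.isCoh_pushforward_finite f QCoh.isCoh_structureModule'
  have hfreeC : Coh.IsCoh (FlatMod.freeMod Y n) := isCoh_freeMod k n
  have hsC : Coh.IsCoh (dir f ⊞ FlatMod.freeMod Y n) := KZ.isCoh_biprod hdirC hfreeC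
  have hRC : Coh.IsCoh R := QCoh.isCoh_cokernel (QCoh.isQCoh_kernel hsC.1 isQCoh_amb m) hsC _
  let a1 : dir f ⟶ R := biprod.inl ≫ p
  let a2 : FlatMod.freeMod Y n ⟶ R := biprod.inr ≫ p
  have ha1 : a1 ≫ j = incDir f := by rw [Category.assoc, hpj, biprod.inl_desc]
  have ha2 : a2 ≫ j = incFree f b := by rw [Category.assoc, hpj, biprod.inr_desc]
  have mono_of : ∀ {F : Y.Modules} (v : F ⟶ amb f), (∀ y, Function.Injective (TFOneX.sm v y)) → Mono v :=
    fun v hv => Preadditive.mono_of_isZero_kernel _ (CurveCohLib.isZero_of_subsingleton_stalks fun y =>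
      TFOneX.notMem_support_iff.1 (TFOneX.subsingleton_kernel v y (hv y)))
  haveI : Mono (incDir f) := mono_of _ fun y => letI := locAlg X y; haveI := hT y; injective_sm_incDir e halg y
  haveI : Mono (incFree f b) := mono_of _ fun y => letI := locAlg X y; haveI := hT y
    injective_sm_incFree e halg y b b.linearIndependent
  haveI : Mono a1 := by
    haveI : Mono (a1 ≫ j) := by rw [ha1]; infer_instance
    exact mono_of_mono a1 j
  haveI : Mono a2 := by
    haveI : Mono (a2 ≫ j) := by rw [ha2]; infer_instance
    exact mono_of_mono a2 j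
  -- the stalks of the two cokernels
  have hlen : ∀ y : Y, letI := locAlg X y
      Module.length (Y.presheaf.stalk y) ((cokernel a1).presheaf.stalk y) =
        IntThLib.relLen (Y.presheaf.stalk y) (Submodule.span (Y.presheaf.stalk y) (Set.range b) ⊔ (haveI := hT y; latDir e halg y))
          (haveI := hT y; latDir e halg y) ∧
      Module.length (Y.presheaf.stalk y) ((cokernel a2).presheaf.stalk y) =
        IntThLib.relLen (Y.presheaf.stalk y) (Submodule.span (Y.presheaf.stalk y) (Set.range b) ⊔ (haveI := hT y; latDir e halg y))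
          (Submodule.span (Y.presheaf.stalk y) (Set.range b)) := fun y => by
    letI := locAlg X y
    haveI := hT y
    have hR : LinearMap.range (psi e halg y ∘ₗ TFOneX.sm j y) =
        Submodule.span (Y.presheaf.stalk y) (Set.range b) ⊔ latDir e halg y := by
      rw [range_psi_of_epi e halg y p j, hpj, range_sum, range_incFree, sup_comm]
      rfl
    refine ⟨(length_stalk_cokernel e halg y a1 j).trans ?_, (length_stalk_cokernel e halg y a2 j).trans ?_⟩
    · rw [hR, ha1]; rfl
    · rw [hR, ha2, range_incFree]
  -- the supports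
  have hgen : ∀ {F : Y.Modules} (v : F ⟶ R), (∀ y, Module.length (Y.presheaf.stalk y) ((cokernel v).presheaf.stalk y) = 0 →
      y ∉ CohB1.support (cokernel v)) := fun v y h => TFOneX.notMem_support_iff.2 (Module.length_eq_zero_iff.1 h)
  have hη : genericPoint Y ∉ CohB1.support (cokernel a1) ∧ genericPoint Y ∉ CohB1.support (cokernel a2) := by
    obtain ⟨g, hg⟩ : ∃ g : Y, g = genericPoint Y := ⟨_, rfl⟩
    obtain ⟨y₀, -, hy₀⟩ := (isClosed_univ (X := ↥Y)).exists_closed_singleton Set.univ_nonempty
    obtain ⟨ι, _, _, c, hc, -⟩ := hD y₀ hy₀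
    letI := locAlg X g
    haveI := hT g
    have hC : latDir e halg g = ⊤ := by
      refine eq_top_of_surjective (surjective_algebraMap_gen hg) _ _ c.span_eq (Set.range_subset_iff.2 fun i => ?_)
      have hi : c i ∈ (letI := locAlg X y₀; haveI := hT y₀; latDir e halg y₀) := by
        letI := locAlg X y₀
        haveI := hT y₀
        exact hc ▸ Submodule.subset_span ⟨i, rfl⟩
      obtain ⟨w, hw⟩ := hi
      obtain ⟨W, hy, s, rfl⟩ := (dir f).presheaf.exists_germ_eq w
      have h1 : gη (gen_mem e hy) s = c i := by
        letI := locAlg X y₀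
        haveI := hT y₀
        exact (psi_incDir e halg y₀ hy s).symm.trans hw
      rw [← h1]
      exact gη_mem_latDir e halg _ (W := W) (hg ▸ ((genericPoint_spec Y).specializes trivial).mem_open W.2 hy) s
    have hB : Submodule.span (Y.presheaf.stalk g) (Set.range b) = ⊤ :=
      eq_top_of_surjective (surjective_algebraMap_gen hg) _ _ b.span_eq Submodule.subset_span
    rw [← hg]
    refine ⟨hgen a1 _ ?_, hgen a2 _ ?_⟩
    · rw [(hlen _).1, hC, hB, sup_top_eq, IntThLib.relLen_self]
    · rw [(hlen _).2, hC, hB, sup_top_eq, IntThLib.relLen_self]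
  have hcl : ∀ {v : Y.Modules} {y : Y}, y ∈ CohB1.support v → genericPoint Y ∉ CohB1.support v →
      IsClosed ({y} : Set Y) := fun hy hg => by_contra fun hc =>
    hg (CurveCohLib.eq_genericPoint_of_not_isClosed hdY hc ▸ hy)
  have hQ1 : Coh.IsCoh (cokernel a1) := QCoh.isCoh_cokernel hdirC.1 hRC a1
  have hQ2 : Coh.IsCoh (cokernel a2) := QCoh.isCoh_cokernel hfreeC.1 hRC a2
  have hfin1 : (CohB1.support (cokernel a1)).Finite :=
    CurveCohLib.finite_of_closedPoints (QCoh.isClosed_support_of_isFT hQ1.1 hQ1.2) fun y hy => hcl hy hη.1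
  have hfin2 : (CohB1.support (cokernel a2)).Finite :=
    CurveCohLib.finite_of_closedPoints (QCoh.isClosed_support_of_isFT hQ2.1 hQ2.2) fun y hy => hcl hy hη.2
  have hdisc0 : Algebra.discr Y.functionField b ≠ 0 := Algebra.discr_not_zero_of_basis _ b
  have hfin3 := finite_setOf_ordFrac_ne_zero k hdY hnY hdisc0
  let ordB : Y → ℤ := fun y => CycAlg.ordFrac (Y.presheaf.stalk y) Y.functionField (Algebra.discr Y.functionField b)
  let l1 : Y → ℤ := fun y => ((Module.length (Y.presheaf.stalk y) ((cokernel a1).presheaf.stalk y)).toNat : ℤ)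
  let l2 : Y → ℤ := fun y => ((Module.length (Y.presheaf.stalk y) ((cokernel a2).presheaf.stalk y)).toNat : ℤ)
  have hDeq : ∀ y : Y, IsClosed ({y} : Set Y) → D y = ordB y + 2 * (l1 y - l2 y) := fun y hy => by
    letI := locAlg X y
    haveI := hT y
    obtain ⟨ι, _, _, c, hc, hDy⟩ := hD y hy
    haveI : IsDomain (Y.presheaf.stalk y) := (hnY y).1
    haveI : IsDiscreteValuationRing (Y.presheaf.stalk y) := CurveEmbed.isDVR_of_normal k hdY hy (hnY y).2
    let σ : Fin n ≃ ι := (Fintype.equivFinOfCardEq (Module.finrank_eq_card_basis c).symm).symm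
    have h := ordFrac_discr_change (A := Y.presheaf.stalk y) (b.reindex σ) c
    rw [Module.Basis.range_reindex, ← hc, show Algebra.discr Y.functionField (b.reindex σ) =
      Algebra.discr Y.functionField b by rw [Module.Basis.coe_reindex, Algebra.discr_reindex]] at h
    show D y = _ + 2 * (((Module.length _ _).toNat : ℤ) - ((Module.length _ _).toNat : ℤ))
    rw [(hlen y).1, (hlen y).2, hDy]
    exact h
  let T := hfin1.toFinset ∪ hfin2.toFinset ∪ hfin3.toFinset
  have hTcl : ∀ y ∈ T, IsClosed ({y} : Set Y) := fun y hy => by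
    simp only [T, Finset.mem_union, Set.Finite.mem_toFinset] at hy
    rcases hy with (hy | hy) | hy
    exacts [hcl hy hη.1, hcl hy hη.2, hy.1]
  have hlz : ∀ {F : Y.Modules} (v : F ⟶ R) (y : Y), y ∉ CohB1.support (cokernel v) →
      Module.length (Y.presheaf.stalk y) ((cokernel v).presheaf.stalk y) = 0 := fun v y h =>
    Module.length_eq_zero_iff.2 (TFOneX.notMem_support_iff.1 h)
  refine ⟨T, hTcl, fun y hy hyT => ?_, ?_⟩
  · simp only [T, Finset.mem_union, Set.Finite.mem_toFinset, not_or] at hyT
    have h3 : ordB y = 0 := by_contra fun h => hyT.2 ⟨hy, h⟩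
    rw [hDeq y hy, h3]
    show (0 : ℤ) + 2 * (((Module.length _ _).toNat : ℤ) - ((Module.length _ _).toNat : ℤ)) = 0
    rw [hlz a1 y hyT.1.1, hlz a2 y hyT.1.2]
    simp
  letI := fun y : Y => Curv2.resAlgebra k Y y
  have hsumB : ∑ y ∈ T, (Module.finrank k (Y.residueField y) : ℤ) * ordB y = 0 := by
    have h := S1860.result k Y (Y ↘ Spec (CommRingCat.of k)) hdY _ hdisc0
    have hzero : ∀ y : Y, y ∉ T → (∑ᶠ (_ : IsClosed ({y} : Set Y)),
        ((Y ↘ Spec (CommRingCat.of k)).residueDegree y : ℤ) * ordB y) = 0 := fun y hy => by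
      rw [finsum_eq_if]
      split_ifs with hc
      · simp only [T, Finset.mem_union, Set.Finite.mem_toFinset, not_or] at hy
        rw [show ordB y = 0 from by_contra fun h => hy.2 ⟨hc, h⟩, mul_zero]
      · rfl
    rw [finsum_eq_sum_of_support_subset _ (s := T) (fun y hy => by_contra fun h' => hy (hzero y h'))] at h
    refine Eq.trans (Finset.sum_congr rfl fun y hy => ?_) h
    rw [finsum_eq_if, if_pos (hTcl y hy), residueDegree_eq_finrank]
  have he1 := euler_eq_sum_lengths k hQ1 (fun y hy => hcl hy hη.1) T
    (fun y hy => Finset.mem_union_left _ (Finset.mem_union_left _ (hfin1.mem_toFinset.2 hy))) hTcl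
  have he2 := euler_eq_sum_lengths k hQ2 (fun y hy => hcl hy hη.2) T
    (fun y hy => Finset.mem_union_left _ (Finset.mem_union_right _ (hfin2.mem_toFinset.2 hy))) hTcl
  have hA1 := CurveCohLib.euler_additive (k := k) (CurveSlope.shortExact_cokernel_of_mono a1) hdirC hRC hQ1
  have hA2 := CurveCohLib.euler_additive (k := k) (CurveSlope.shortExact_cokernel_of_mono a2) hfreeC hRC hQ2
  dsimp only at hA1 hA2
  have hdir : Curv2.euler k X (Coh.structureModule X) = Curv2.euler k Y (dir f) := finsum_congr fun i => by
    obtain ⟨ε⟩ := PnCoh.exists_linearEquiv_push k f hf QCoh.isQCoh_structureModule i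
    rw [ε.finrank_eq]
  rw [euler_freeMod k n] at hA2
  rw [hdir, Finset.sum_congr rfl fun y hy => congrArg (fun z => _ * z) (hDeq y (hTcl y hy))]
  have hrhs : ∑ y ∈ T, (Module.finrank k (Y.residueField y) : ℤ) * (ordB y + 2 * (l1 y - l2 y)) =
      2 * Curv2.euler k Y (cokernel a1) - 2 * Curv2.euler k Y (cokernel a2) := by
    rw [he1, he2]
    simp only [mul_add, mul_sub, Finset.sum_add_distrib, Finset.sum_sub_distrib, hsumB, zero_add, Finset.mul_sum]
    exact congrArg₂ (· - ·) (Finset.sum_congr rfl fun y _ => mul_left_comm _ _ _)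
      (Finset.sum_congr rfl fun y _ => mul_left_comm _ _ _)
  rw [hrhs]
  linarith

end Global

end Groth.Agent.CurveHurwitz18
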