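import Groth.Agent.CurveHurwitz18.Basic
import Groth.Agent.CurveHurwitz18.Discr
import Groth.Agent.CurveEmbed.Points
import Groth.Agent.CurveGor.DeltaScheme

/-!
# The semilocal ring of the cover over a closed point of the base
-/

set_option autoImplicit false
set_option linter.style.haveILetI false
set_option linter.unusedSectionVars false
set_option backward.isDefEq.respectTransparency false
set_option backward.isDefEq.respectTransparency.types false
set_option maxHeartbeats 1000000
set_option synthInstance.maxHeartbeats 200000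

universe u

open CategoryTheory CategoryTheory.Limits AlgebraicGeometry TopologicalSpace Opposite

noncomputable section

open scoped nonZeroDivisors

namespace Groth.Agent.CurveHurwitz18

open Groth.Agent Groth.Agent.CurveCohLib Groth.Agent.CurveCohLib.Polar Groth.Agent.AModX
open Groth.Agent.CurveTrace (ff gen_mem ff_gη)

/-- The residue degree of a local homomorphism. -/
def resDeg {A O : Type u} [CommRing A] [IsLocalRing A] [CommRing O] [IsLocalRing O] (g : A →+* O) [IsLocalHom g] : ℕ :=
  letI := g.toAlgebra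
  haveI : IsLocalHom (algebraMap A O) := ‹IsLocalHom g›
  Module.finrank (IsLocalRing.ResidueField A) (IsLocalRing.ResidueField O)

/-- The different exponent is at least the ramification index minus one, with equality in the tame case. -/
def TameSpec {A O : Type u} [CommRing A] [IsLocalRing A] [CommRing O] [IsLocalRing O] (g : A →+* O) [IsLocalHom g]
    (d : ℕ) : Prop :=
  letI := g.toAlgebra
  haveI : IsLocalHom (algebraMap A O) := ‹IsLocalHom g›
  Ideal.ramificationIdx (IsLocalRing.maximalIdeal O) A - 1 ≤ d ∧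
    (d = Ideal.ramificationIdx (IsLocalRing.maximalIdeal O) A - 1 ↔
      Algebra.IsSeparable (IsLocalRing.ResidueField A) (IsLocalRing.ResidueField O) ∧
        ((Ideal.ramificationIdx (IsLocalRing.maximalIdeal O) A : ℕ) : IsLocalRing.ResidueField A) ≠ 0)

variable {X Y : Scheme.{u}} {f : X ⟶ Y}

/-- The map of stalks towards a named point. -/
abbrev stalkTo {x : X} {y : Y} (hx : f x = y) : Y.presheaf.stalk y →+* X.presheaf.stalk x :=
  (Y.presheaf.stalkSpecializes (specializes_of_eq hx) ≫ f.stalkMap x).hom

instance isLocalHom_stalkTo {x : X} {y : Y} (hx : f x = y) : IsLocalHom (stalkTo hx) := by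
  subst hx
  have h : Y.presheaf.stalkSpecializes (specializes_of_eq (rfl : f x = f x)) ≫ f.stalkMap x = f.stalkMap x :=
    (congrArg (· ≫ f.stalkMap x) (TopCat.Presheaf.stalkSpecializes_refl Y.presheaf (f x))).trans (Category.id_comp _)
  rw [stalkTo, h]
  infer_instance

theorem stalkTo_self {x : X} : stalkTo (rfl : f x = f x) = (f.stalkMap x).hom :=
  congrArg CommRingCat.Hom.hom ((congrArg (· ≫ f.stalkMap x)
    (TopCat.Presheaf.stalkSpecializes_refl Y.presheaf (f x))).trans (Category.id_comp _))

variable [IsIntegral X] [IsIntegral Y] (e : f (genericPoint X) = genericPoint Y)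
  [Algebra Y.functionField X.functionField] (halg : algebraMap Y.functionField X.functionField = ff e)
  (k : Type u) [Field k] [X.Over (Spec (CommRingCat.of k))] [Y.Over (Spec (CommRingCat.of k))]
  [IsProper (X ↘ Spec (CommRingCat.of k))] [IsProper (Y ↘ Spec (CommRingCat.of k))] [IsFinite f]
  [FiniteDimensional Y.functionField X.functionField] [Algebra.IsSeparable Y.functionField X.functionField]

include k in
/-- The lattice of the cover at a closed point: a basis and the order of its discriminant. -/
theorem exists_local_basis (hdX : topologicalKrullDim X = 1) (hdY : topologicalKrullDim Y = 1)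
    (hnX : Pi1.IsNormalScheme X) (hnY : Pi1.IsNormalScheme Y)
    (y : Y) (hy : IsClosed ({y} : Set Y)) [Algebra (Y.presheaf.stalk y) X.functionField]
    [IsScalarTower (Y.presheaf.stalk y) Y.functionField X.functionField] :
    ∃ (ι : Type u) (_ : Fintype ι) (_ : DecidableEq ι) (c : Module.Basis ι Y.functionField X.functionField)
      (S : Finset X) (_ : ∀ x, x ∈ S ↔ f x = y) (d : ∀ x, f x = y → ℕ) (T : S → ℕ),
      latDir e halg y = Submodule.span (Y.presheaf.stalk y) (Set.range c) ∧
      (∀ (x : S) (hx : f x.1 = y), T x = resDeg (stalkTo hx) * d x.1 hx) ∧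
      CycAlg.ordFrac (Y.presheaf.stalk y) Y.functionField (Algebra.discr Y.functionField c) = ∑ x : S, (T x : ℤ) ∧
      ∀ x (hx : f x = y), TameSpec (stalkTo hx) (d x hx) := by
  classical
  haveI := CurveCohLib.isNoetherian_of_proper (k := k) (X := X)
  haveI := CurveCohLib.isNoetherian_of_proper (k := k) (X := Y)
  obtain ⟨_, ⟨V, hV, rfl⟩, hyV, -⟩ :=
    Y.isBasis_affineOpens.exists_subset_of_mem_open (Set.mem_univ y) isOpen_univ
  let W : X.Opens := f ⁻¹ᵁ V
  have hW : IsAffineOpen W := hV.preimage f
  have hηW : genericPoint X ∈ W := gen_mem e hyV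
  haveI : Nonempty W := ⟨⟨_, hηW⟩⟩
  haveI : Nonempty V := ⟨⟨y, hyV⟩⟩
  let R := Γ(Y, V)
  let S := Γ(X, W)
  let A := Y.presheaf.stalk y
  let K := Y.functionField
  let L := X.functionField
  haveI : IsDomain A := (hnY y).1
  haveI : IsDiscreteValuationRing A := CurveEmbed.isDVR_of_normal k hdY hy (hnY y).2
  let p := (hV.primeIdealOf ⟨y, hyV⟩).asIdeal
  letI aA : Algebra R A := QCoh.stalkAlg (X := Y) hyV
  haveI : IsLocalization.AtPrime A p := QCoh.isLocalization_stalk' hV hyV
  letI aS : Algebra R S := (f.app V).hom.toAlgebra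
  haveI : Module.Finite R S := RingHom.finite_algebraMap.1 (IsFinite.finite_app (f := f) V hV)
  haveI : IsFractionRing S L := functionField_isFractionRing_of_isAffineOpen X W hW
  have hgS : ∀ b : S, algebraMap S L b = gη hηW b := fun b => rfl
  have hRL : ∀ r : R, algebraMap S L (algebraMap R S r) = algebraMap A L (algebraMap R A r) := fun r =>
    ((ff_gη e hyV r).symm).trans (algebraMap_germ e halg y hyV r).symm
  have hR0 : ∀ r : R, r ≠ 0 → gη hyV r ≠ 0 := fun r hr h => hr (gη_injective hyV (h.trans (map_zero _).symm))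
  have hAL : Function.Injective (algebraMap A L) := by
    intro a b h
    rw [IsScalarTower.algebraMap_apply A K L, IsScalarTower.algebraMap_apply A K L] at h
    exact IsFractionRing.injective A K ((algebraMap K L).injective h)
  let Mp := Algebra.algebraMapSubmonoid S p.primeCompl
  have hMunit : ∀ u : Mp, IsUnit (algebraMap S L u) := by
    rintro ⟨_, r, hr, rfl⟩
    rw [hRL]
    exact ((IsLocalization.map_units A ⟨r, hr⟩).map (algebraMap A L))
  have hMS : Mp ≤ S⁰ := fun u hu => mem_nonZeroDivisors_of_ne_zero fun h =>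
    (hMunit ⟨u, hu⟩).ne_zero (by show algebraMap S L u = 0; rw [h, map_zero])
  let N := Localization Mp
  haveI : IsDomain N := IsLocalization.isDomain_localization hMS
  letI aAN : Algebra A N := (IsLocalization.map (M := p.primeCompl) (T := Mp) N (algebraMap R S)
    (Submonoid.le_comap_map p.primeCompl) : A →+* N).toAlgebra
  haveI : IsScalarTower R A N := IsScalarTower.of_algebraMap_eq fun r => by
    show _ = IsLocalization.map (M := p.primeCompl) (T := Mp) N (algebraMap R S) _ (algebraMap R A r)
    rw [IsLocalization.map_eq, ← IsScalarTower.algebraMap_apply]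
  haveI : Module.Finite A N := Module.Finite.of_isLocalizedModule (S := p.primeCompl) (Rₚ := A)
    (f := (IsScalarTower.toAlgHom R S N).toLinearMap)
  letI aNL : Algebra N L := (IsLocalization.lift (S := N) hMunit).toAlgebra
  haveI : IsScalarTower S N L := IsScalarTower.of_algebraMap_eq fun b =>
    (IsLocalization.lift_eq hMunit b).symm
  haveI : IsFractionRing N L := IsFractionRing.isFractionRing_of_isDomain_of_isLocalization Mp N L
  haveI : IsScalarTower A N L := IsScalarTower.of_algebraMap_eq' (IsLocalization.ringHom_ext p.primeCompl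
    (RingHom.ext fun r => by
      show algebraMap A L (algebraMap R A r) = algebraMap N L (algebraMap A N (algebraMap R A r))
      rw [← IsScalarTower.algebraMap_apply R A N, IsScalarTower.algebraMap_apply R S N,
        ← IsScalarTower.algebraMap_apply S N L, hRL]))
  have hANinj : Function.Injective (algebraMap A N) := fun a b h => hAL (by
    rw [IsScalarTower.algebraMap_apply A N L, h, ← IsScalarTower.algebraMap_apply A N L])
  haveI : Module.IsTorsionFree A N := Module.isTorsionFree_iff_algebraMap_injective.2 hANinj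
  -- the points over `y`
  have hfin : (f ⁻¹' {y}).Finite := f.finite_preimage_singleton y
  let S₀ := hfin.toFinset
  have hS₀ : ∀ x, x ∈ S₀ ↔ f x = y := fun x => hfin.mem_toFinset
  have hmemW : ∀ x, f x = y → x ∈ W := fun x hx => (show f x ∈ V from hx ▸ hyV)
  have hcl : ∀ x, f x = y → IsClosed ({x} : Set X) := fun x hx => by
    by_contra hc
    obtain rfl := CurveCohLib.eq_genericPoint_of_not_isClosed hdX hc
    exact CurveEmbed.genericPoint_not_closed hdY ((e.symm.trans hx) ▸ hy)
  have hηprime : ∀ (x : X) (hxW : x ∈ W), (hW.primeIdealOf ⟨x, hxW⟩).asIdeal ≠ ⊥ → x ≠ genericPoint X := by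
    rintro x hxW hne rfl
    refine hne ((Submodule.eq_bot_iff _).2 fun r hr => by_contra fun hr0 => ?_)
    refine ((QCoh.mem_basicOpen_iff_notMem hW hxW r).1 ?_) hr
    rw [X.mem_basicOpen _ _ hxW]
    exact (isUnit_iff_ne_zero (G₀ := X.functionField) (a := gη hxW r)).2 fun h =>
      hr0 (gη_injective hxW (h.trans (map_zero _).symm))
  have hcomap : ∀ (x : X) (hxW : x ∈ W),
      (hW.primeIdealOf ⟨x, hxW⟩).asIdeal.comap (algebraMap R S) = (hV.primeIdealOf ⟨f x, hxW⟩).asIdeal := fun x hxW => by
    have h := IsAffineOpen.comap_primeIdealOf_appLE (f := f) (x := x) V hV W hW le_rfl hxW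
    rw [← Scheme.Hom.app_eq_appLE] at h
    exact congrArg PrimeSpectrum.asIdeal h
  have hfibre : ∀ (x : X) (hx : f x = y),
      (hW.primeIdealOf ⟨x, hmemW x hx⟩).asIdeal.comap (algebraMap R S) = p := fun x hx => by
    rw [hcomap]; subst hx; rfl
  have hunit : ∀ (x : X) (hx : f x = y), letI := QCoh.stalkAlg (X := X) (hmemW x hx)
      ∀ u : Mp, IsUnit (algebraMap S (X.presheaf.stalk x) u) := fun x hx => by
    letI := QCoh.stalkAlg (X := X) (hmemW x hx)
    haveI := QCoh.isLocalization_stalk' (X := X) hW (hmemW x hx)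
    rintro ⟨_, r, hr, rfl⟩
    exact IsLocalization.map_units (M := (hW.primeIdealOf ⟨x, hmemW x hx⟩).asIdeal.primeCompl) _
      ⟨algebraMap R S r, fun h => hr ((hfibre x hx).le h)⟩
  letI algNO : ∀ x : S₀, Algebra N (X.presheaf.stalk x.1) := fun x =>
    letI := QCoh.stalkAlg (X := X) (hmemW x.1 ((hS₀ _).1 x.2))
    (IsLocalization.lift (S := N) (hunit x.1 ((hS₀ _).1 x.2))).toAlgebra
  let P : S₀ → Ideal N := fun x => (IsLocalRing.maximalIdeal (X.presheaf.stalk x.1)).comap (algebraMap N _)
  have hPS : ∀ x : S₀, (P x).comap (algebraMap S N) = (hW.primeIdealOf ⟨x.1, hmemW x.1 ((hS₀ _).1 x.2)⟩).asIdeal := fun x => by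
    letI := QCoh.stalkAlg (X := X) (hmemW x.1 ((hS₀ _).1 x.2))
    haveI := QCoh.isLocalization_stalk' (X := X) hW (hmemW x.1 ((hS₀ _).1 x.2))
    show ((IsLocalRing.maximalIdeal _).comap (algebraMap N _)).comap (algebraMap S N) = _
    rw [Ideal.comap_comap, show (algebraMap N (X.presheaf.stalk x.1)).comp (algebraMap S N) =
      algebraMap S (X.presheaf.stalk x.1) from IsLocalization.lift_comp _]
    exact IsLocalization.AtPrime.comap_maximalIdeal _ _
  haveI hloc : ∀ x : S₀, IsLocalization.AtPrime (X.presheaf.stalk x.1) (P x) := fun x => by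
    letI := QCoh.stalkAlg (X := X) (hmemW x.1 ((hS₀ _).1 x.2))
    haveI := QCoh.isLocalization_stalk' (X := X) hW (hmemW x.1 ((hS₀ _).1 x.2))
    haveI : IsScalarTower S N (X.presheaf.stalk x.1) :=
      IsScalarTower.of_algebraMap_eq fun b => (IsLocalization.lift_eq _ b).symm
    set q := (hW.primeIdealOf ⟨x.1, hmemW x.1 ((hS₀ _).1 x.2)⟩).asIdeal with hq
    have hle : Mp ≤ q.primeCompl := by
      rintro _ ⟨r, hr, rfl⟩ h
      exact hr ((hfibre x.1 ((hS₀ _).1 x.2)).le h)
    haveI := IsLocalization.isLocalization_of_submonoid_le N (X.presheaf.stalk x.1) Mp q.primeCompl hle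
    refine IsLocalization.of_le (q.primeCompl.map (algebraMap S N)) (P x).primeCompl ?_ fun r hr => ?_
    · rintro _ ⟨b, hb, rfl⟩ h
      exact hb ((hPS x).le h)
    · exact IsLocalRing.notMem_maximalIdeal.1 hr
  have hDVR : ∀ x : S₀, IsDiscreteValuationRing (X.presheaf.stalk x.1) := fun x =>
    haveI : IsDomain (X.presheaf.stalk x.1) := (hnX x.1).1
    CurveEmbed.isDVR_of_normal k hdX (hcl x.1 ((hS₀ _).1 x.2)) (hnX x.1).2
  have hpt : ∀ Q : Ideal N, Q.IsPrime → Q ≠ ⊥ → ∃ x : S₀, P x = Q := fun Q hQ hQ0 => by
    haveI := hQ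
    have hq0 : Q.comap (algebraMap S N) ≠ ⊥ := fun h => hQ0 ((IsLocalization.map_comap Mp N Q).symm.trans (by
      show Ideal.map _ (Q.comap (algebraMap S N)) = ⊥
      rw [h, Ideal.map_bot]))
    haveI := hQ.comap (algebraMap S N)
    obtain ⟨x, hxW, hx⟩ := CurveGor.Delta.exists_point_of_prime hW (Q.comap (algebraMap S N))
    have hxc : IsClosed ({x} : Set X) := by_contra fun hc =>
      hηprime x hxW (hx ▸ hq0) (CurveCohLib.eq_genericPoint_of_not_isClosed hdX hc)
    have hsp : f x ⤳ y := CurveGor.Delta.specializes_of_prime_le hV hxW hyV (by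
      rw [← hcomap, hx]
      intro r hr
      by_contra hrp
      exact hQ.ne_top (Ideal.eq_top_of_isUnit_mem _ hr (IsLocalization.map_units N (⟨_, r, hrp, rfl⟩ : Mp))))
    have hfx : IsClosed ({f x} : Set Y) := by
      have := f.isClosedMap _ hxc
      rwa [Set.image_singleton] at this
    have hxy : f x = y := (hsp.mem_closed hfx rfl).symm
    refine ⟨⟨x, (hS₀ x).2 hxy⟩, ?_⟩
    have h1 := (hPS ⟨x, (hS₀ x).2 hxy⟩).trans hx
    refine (IsLocalization.map_comap Mp N (P _)).symm.trans (Eq.trans ?_ (IsLocalization.map_comap Mp N Q))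
    exact congrArg (Ideal.map (algebraMap S N)) h1
  haveI : IsNoetherianRing A := inferInstance
  haveI : IsNoetherian A N := isNoetherian_of_isNoetherianRing_of_finite A N
  haveI : IsNoetherianRing N := isNoetherianRing_iff.2 (isNoetherian_of_tower A inferInstance)
  haveI hDed : IsDedekindDomain N := by
    haveI : IsDedekindDomainDvr N :=
      { is_dvr_at_nonzero_prime := fun Q hQ0 hQ => by
          obtain ⟨x, rfl⟩ := hpt Q hQ hQ0
          haveI := hloc x
          haveI : IsDomain (X.presheaf.stalk x.1) := (hnX x.1).1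
          haveI := hDVR x
          exact IsDiscreteValuationRing.RingEquivClass.isDiscreteValuationRing
            (IsLocalization.algEquiv (P x).primeCompl (X.presheaf.stalk x.1) (Localization.AtPrime (P x))) }
    infer_instance
  haveI : Algebra.IsIntegral A N := inferInstance
  have hmaxne : ∀ Q : Ideal N, Q.IsMaximal → Q ≠ ⊥ := fun Q hQ h => by
    haveI := Ideal.isMaximal_comap_of_isIntegral_of_isMaximal (R := A) Q
    have h1 : Q.comap (algebraMap A N) = IsLocalRing.maximalIdeal A := IsLocalRing.eq_maximalIdeal this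
    rw [h, ← RingHom.ker_eq_comap_bot, (RingHom.injective_iff_ker_eq_bot _).1 hANinj] at h1
    exact IsDiscreteValuationRing.not_a_field A h1.symm
  haveI hPmax : ∀ x : S₀, (P x).IsMaximal := fun x => by
    haveI : (P x).IsPrime := Ideal.IsPrime.comap _
    refine Ideal.IsPrime.isMaximal inferInstance fun h => ?_
    have h1 := hPS x
    rw [h, ← RingHom.ker_eq_comap_bot, (RingHom.injective_iff_ker_eq_bot _).1
      (IsLocalization.injective N hMS)] at h1
    have hp0 : p = ⊥ := by
      rw [← hfibre x.1 ((hS₀ _).1 x.2), ← h1, ← RingHom.ker_eq_comap_bot]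
      refine (RingHom.injective_iff_ker_eq_bot _).1 fun a b hab => gη_injective hyV ?_
      have h2 := congrArg (algebraMap S L) hab
      rw [hRL, hRL] at h2
      have h3 := hAL h2
      exact (Y.algebraMap_germ_eq_germToFunctionField hyV a).symm.trans
        ((congrArg (algebraMap A K) h3).trans (Y.algebraMap_germ_eq_germToFunctionField hyV b))
    refine IsDiscreteValuationRing.not_a_field A ?_
    rw [← IsLocalization.AtPrime.map_eq_maximalIdeal p A, hp0, Ideal.map_bot]
  have hP : ∀ Q : Ideal N, Q.IsMaximal → ∃! x, P x = Q := fun Q hQ => by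
    obtain ⟨x, hx⟩ := hpt Q hQ.isPrime (hmaxne Q hQ)
    refine ⟨x, hx, fun x' hx' => Subtype.ext ?_⟩
    have h1 := congrArg (Ideal.comap (algebraMap S N)) (hx'.trans hx.symm)
    rw [hPS, hPS] at h1
    have h2 := congrArg hW.fromSpec (PrimeSpectrum.ext h1)
    rwa [hW.fromSpec_primeIdealOf, hW.fromSpec_primeIdealOf] at h2
  haveI : IsPrincipalIdealRing N := IsPrincipalIdealRing.of_finite_maximals
    ((Set.finite_range P).subset fun Q hQ => ⟨_, (hP Q hQ).choose_spec.1⟩)
  -- the localizations as extensions of `A`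
  letI algAO : ∀ x : S₀, Algebra A (X.presheaf.stalk x.1) := fun x => (stalkTo ((hS₀ _).1 x.2)).toAlgebra
  haveI : ∀ x : S₀, IsLocalHom (algebraMap A (X.presheaf.stalk x.1)) := fun x => isLocalHom_stalkTo _
  haveI : ∀ x : S₀, IsScalarTower A N (X.presheaf.stalk x.1) := fun x => by
    letI := QCoh.stalkAlg (X := X) (hmemW x.1 ((hS₀ _).1 x.2))
    refine IsScalarTower.of_algebraMap_eq' (IsLocalization.ringHom_ext p.primeCompl (RingHom.ext fun r => ?_))
    show stalkTo ((hS₀ _).1 x.2) (algebraMap R A r) = algebraMap N _ (algebraMap A N (algebraMap R A r))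
    rw [← IsScalarTower.algebraMap_apply R A N, IsScalarTower.algebraMap_apply R S N,
      show algebraMap N (X.presheaf.stalk x.1) (algebraMap S N (algebraMap R S r)) = _ from IsLocalization.lift_eq _ _]
    show (f.stalkMap x.1).hom ((Y.presheaf.stalkSpecializes _).hom ((Y.presheaf.germ V y hyV).hom r)) = _
    rw [show (Y.presheaf.stalkSpecializes (specializes_of_eq ((hS₀ _).1 x.2))).hom ((Y.presheaf.germ V y hyV).hom r) =
      (Y.presheaf.germ V (f x.1) (hmemW x.1 ((hS₀ _).1 x.2))).hom r from
      Y.presheaf.germ_stalkSpecializes_apply hyV _ r]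
    exact Scheme.Hom.germ_stalkMap_apply f V x.1 _ r
  haveI : ∀ x : S₀, IsDomain (X.presheaf.stalk x.1) := fun x => (hnX x.1).1
  haveI := hDVR
  -- the basis
  haveI : Module.Free A N := Module.free_of_finite_type_torsion_free'
  haveI : IsIntegralClosure N A L := IsIntegralClosure.of_isIntegrallyClosed N A L
  haveI : IsLocalization (Algebra.algebraMapSubmonoid N A⁰) L := IsIntegralClosure.isLocalization _ K _ _
  let cN := Module.Free.chooseBasis A N
  let c := cN.localizationLocalization K A⁰ L
  have hc : (c : _ → L) = algebraMap N L ∘ cN := funext fun i => Module.Basis.localizationLocalization_apply K A⁰ L cN i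
  haveI := isSeparable_fractionRing A N K L
  refine ⟨_, inferInstance, inferInstance, c, S₀, hS₀,
    fun x hx => (Module.length (X.presheaf.stalk x) (X.presheaf.stalk x ⧸
      (differentIdeal A N).map (algebraMap N (X.presheaf.stalk (⟨x, (hS₀ x).2 hx⟩ : S₀).1)))).toNat,
    fun x => resDeg (stalkTo ((hS₀ _).1 x.2)) * (Module.length (X.presheaf.stalk x.1) (X.presheaf.stalk x.1 ⧸
      (differentIdeal A N).map (algebraMap N (X.presheaf.stalk x.1)))).toNat,
    ?_, fun x hx => rfl, ?_, fun x hx => ?_⟩
  · have hrange : Submodule.span A (Set.range c) = LinearMap.range (IsScalarTower.toAlgHom A N L).toLinearMap := by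
      rw [hc, Set.range_comp, show (algebraMap N L : N → L) = (IsScalarTower.toAlgHom A N L).toLinearMap from rfl,
        Submodule.span_image, cN.span_eq, Submodule.map_top]
    rw [hrange]
    refine le_antisymm ?_ ?_
    · rintro _ ⟨w, rfl⟩
      have hM : Coh.IsQCoh (dir f) := (QCoh.isCoh_pushforward_finite f QCoh.isCoh_structureModule').1
      letI : Module R ((dir f).presheaf.stalk y) := QCoh.stalkModule (dir f) hyV
      obtain ⟨⟨b, ⟨u, hu⟩⟩, hbu⟩ := (QCoh.isLocalizedModule_germLin hM hV hyV).surj w
      have hbu' : algebraMap R A u • (show (DerSch.stalkFunctor Y y).obj (dir f) from w) =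
          (dir f).presheaf.germ V y hyV b := hbu
      have h1 := congrArg (psi e halg y ∘ₗ TFOneX.sm (incDir f) y) hbu'
      rw [map_smul, LinearMap.comp_apply, LinearMap.comp_apply, psi_incDir, Algebra.smul_def] at h1
      refine ⟨IsLocalization.mk' N (show S from b) (⟨algebraMap R S u, u, hu, rfl⟩ : Mp), ?_⟩
      refine mul_left_cancel₀ (((IsLocalization.map_units A ⟨u, hu⟩).map (algebraMap A L)).ne_zero) ?_
      refine Eq.trans ?_ h1.symm
      show algebraMap A L (algebraMap R A u) * algebraMap N L (IsLocalization.mk' N _ _) = gη _ _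
      rw [← hRL, IsScalarTower.algebraMap_apply S N L, ← map_mul]
      refine (congrArg (algebraMap N L)
        (IsLocalization.mk'_spec' N (show S from b) (⟨algebraMap R S u, u, hu, rfl⟩ : Mp))).trans ?_
      rw [← IsScalarTower.algebraMap_apply S N L]
      rfl
    · rintro _ ⟨z, rfl⟩
      obtain ⟨⟨b, ⟨_, u, hu, rfl⟩⟩, hz⟩ := IsLocalization.surj Mp z
      have hb : algebraMap S L b ∈ latDir e halg y := gη_mem_latDir e halg y hyV b
      obtain ⟨v, hv⟩ := IsLocalization.map_units A (⟨u, hu⟩ : p.primeCompl)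
      have h1 : algebraMap A L (algebraMap R A u) * algebraMap N L z = algebraMap S L b := by
        rw [← hRL, IsScalarTower.algebraMap_apply S N L, ← map_mul, mul_comm, hz, ← IsScalarTower.algebraMap_apply S N L]
      have h2 := (latDir e halg y).smul_mem (↑v⁻¹ : A) hb
      rw [← h1, ← hv, Algebra.smul_def, ← mul_assoc, ← map_mul, Units.inv_mul, map_one, one_mul] at h2
      exact h2
  · rw [hc, ordFrac_discr_sum A N K L cN P hP (fun x : S₀ => X.presheaf.stalk x.1)]
    refine Finset.sum_congr rfl fun x _ => ?_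
    rw [Nat.cast_mul]
    rfl
  · exact exponent_spec A N (P ⟨x, (hS₀ x).2 hx⟩) (X.presheaf.stalk (⟨x, (hS₀ x).2 hx⟩ : S₀).1)

end Groth.Agent.CurveHurwitz18
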